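import Mathlib

set_option autoImplicit false
open Pointwise MulAction

namespace Cfsg.Agent.Lib.Helper21

theorem dvd_card_of_dvd_orbits {H Y : Type*} [Group H] [MulAction H Y] [Finite Y] (c : ℕ)
    (h : ∀ y : Y, c ∣ Nat.card (orbit H y)) : c ∣ Nat.card Y := by
  classical
  haveI : Fintype (orbitRel.Quotient H Y) := Fintype.ofFinite _
  rw [Nat.card_congr (selfEquivSigmaOrbits H Y), Nat.card_sigma]
  exact Finset.dvd_sum (fun q _ => h _)

theorem card_modEq_of_invariant {H X : Type*} [Group H] [MulAction H X] [Finite X] (A : Set X)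
    (hA : ∀ (g : H) (x : X), x ∈ A → g • x ∈ A) (c : ℕ)
    (h : ∀ x : X, x ∉ A → c ∣ (stabilizer H x).index) : Nat.card X ≡ Nat.card A [MOD c] := by
  classical
  let Y : SubMulAction H X := ⟨Aᶜ, fun g x hx hgx => hx (by
    have := hA g⁻¹ _ hgx
    simpa using this)⟩
  have hY : c ∣ Nat.card Y := by
    apply dvd_card_of_dvd_orbits (H := H)
    intro y
    have h1 := h y.1 y.2
    rw [← SubMulAction.stabilizer_of_subMul, MulAction.index_stabilizer] at h1
    exact h1
  have hsum : Nat.card X = Nat.card A + Nat.card (Aᶜ : Set X) := by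
    rw [← Nat.card_sum]
    exact Nat.card_congr (Equiv.Set.sumCompl A).symm
  rw [hsum]
  have hY' : c ∣ Nat.card (Aᶜ : Set X) := hY
  obtain ⟨d, hd⟩ := hY'
  rw [hd]
  exact Nat.modEq_iff_dvd' (Nat.le_add_right _ _) |>.mpr (by simp) |>.symm

theorem choose_pred_modEq_one (p : ℕ) [hp : Fact p.Prime] (β m : ℕ) (hm : 0 < m) :
    (p ^ β * m - 1).choose (p ^ β - 1) ≡ 1 [MOD p] := by
  induction β with
  | zero => simp [Nat.ModEq.refl]
  | succ β ih =>
    have hp0 : 0 < p := hp.out.pos
    have key : ∀ t : ℕ, 0 < t → (p * t - 1) % p = p - 1 ∧ (p * t - 1) / p = t - 1 := by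
      intro t ht
      obtain ⟨s, rfl⟩ : ∃ s, t = s + 1 := ⟨t - 1, by omega⟩
      have h1 : p * (s + 1) - 1 = (p - 1) + p * s := by
        rw [mul_add, mul_one]; omega
      rw [h1]
      constructor
      · rw [Nat.add_mul_mod_self_left, Nat.mod_eq_of_lt (by omega)]
      · rw [Nat.add_mul_div_left _ _ hp0, Nat.div_eq_of_lt (by omega)]; simp
    have h1 := key (p ^ β * m) (by positivity)
    have h2 := key (p ^ β) (by positivity)
    have h3 := Choose.choose_modEq_choose_mod_mul_choose_div_nat (p := p)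
      (n := p * (p ^ β * m) - 1) (k := p * p ^ β - 1)
    rw [h1.1, h1.2, h2.1, h2.2, Nat.choose_self, one_mul] at h3
    have e1 : p ^ (β + 1) * m = p * (p ^ β * m) := by ring
    have e2 : p ^ (β + 1) = p * p ^ β := by ring
    rw [e1, e2]
    exact h3.trans ih

theorem choose_eq_mul_choose_pred (q m : ℕ) (hq : 0 < q) (hm : 0 < m) :
    (q * m).choose q = m * (q * m - 1).choose (q - 1) := by
  have h := Nat.add_one_mul_choose_eq (q * m - 1) (q - 1)
  have h1 : q * m - 1 + 1 = q * m := Nat.sub_add_cancel (Nat.mul_pos hq hm)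
  have h2 : q - 1 + 1 = q := Nat.sub_add_cancel hq
  rw [h1, h2] at h
  have : q * (m * (q * m - 1).choose (q - 1)) = q * (q * m).choose q := by
    rw [← mul_assoc, h, mul_comm]
  exact (Nat.eq_of_mul_eq_mul_left hq this).symm

variable {G : Type*} [Group G]

theorem card_dvd_of_mul_invariant (T : Subgroup G) (S : Finset G)
    (h : ∀ t ∈ T, ∀ s ∈ S, t * s ∈ S) : Nat.card T ∣ S.card := by
  classical
  letI : MulAction T S :=
    { smul := fun t s => ⟨t.1 * s.1, h t.1 t.2 s.1 s.2⟩
      one_smul := fun s => Subtype.ext (one_mul _)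
      mul_smul := fun a b s => Subtype.ext (mul_assoc _ _ _) }
  have h1 : Nat.card T ∣ Nat.card S := by
    apply dvd_card_of_dvd_orbits (H := T)
    intro y
    have hinj : Function.Injective (fun t : T => t • y) := by
      intro a b hab
      have : a.1 * y.1 = b.1 * y.1 := congrArg Subtype.val hab
      exact Subtype.ext (mul_right_cancel this)
    have : Nat.card (orbit T y) = Nat.card T := Nat.card_range_of_injective hinj
    rw [this]
  simpa using h1

section
variable [Finite G] [DecidableEq G]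

/-- the left coset as an element of `Set.powersetCard`. -/
noncomputable def cosetFinset (q : ℕ) (x : Σ K : {K : Subgroup G // Nat.card K = q}, G ⧸ K.1) :
    Set.powersetCard G q :=
  ⟨(Set.toFinite {g : G | (g : G ⧸ x.1.1) = x.2}).toFinset, by
    rw [Set.powersetCard.mem_iff, ← Set.ncard_eq_toFinset_card]
    have := QuotientGroup.card_preimage_mk x.1.1 {x.2}
    have h1 : Nat.card ({x.2} : Set (G ⧸ x.1.1)) = 1 := by
      rw [Nat.card_coe_set_eq, Set.ncard_singleton]
    rw [h1, mul_one, x.1.2] at this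
    exact this⟩

theorem mem_cosetFinset (q : ℕ) (x : Σ K : {K : Subgroup G // Nat.card K = q}, G ⧸ K.1) (g : G) :
    g ∈ (cosetFinset q x : Finset G) ↔ (g : G ⧸ x.1.1) = x.2 := by
  simp [cosetFinset]

theorem cosetFinset_injective (q : ℕ) : Function.Injective (cosetFinset (G := G) q) := by
  rintro ⟨⟨K, hK⟩, c⟩ ⟨⟨K', hK'⟩, c'⟩ h
  obtain ⟨g₀, rfl⟩ := QuotientGroup.mk_surjective c
  have hmem : ∀ g : G, (g : G ⧸ K) = (g₀ : G ⧸ K) ↔ (g : G ⧸ K') = c' := by
    intro g
    have h1 := mem_cosetFinset q ⟨⟨K, hK⟩, (g₀ : G ⧸ K)⟩ g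
    have h2 := mem_cosetFinset q ⟨⟨K', hK'⟩, c'⟩ g
    rw [h] at h1
    exact h1.symm.trans h2
  have hc' : (g₀ : G ⧸ K') = c' := (hmem g₀).mp rfl
  have hKK : K = K' := by
    ext k
    have h1 := hmem (g₀ * k)
    rw [← hc', QuotientGroup.eq, QuotientGroup.eq] at h1
    simp only [mul_inv_rev, inv_mul_cancel_right, inv_mem_iff] at h1
    exact h1
  subst hKK
  rw [hc']

theorem smul_cosetFinset (q : ℕ) (g : G) (x : Σ K : {K : Subgroup G // Nat.card K = q}, G ⧸ K.1) :
    g • cosetFinset q x = cosetFinset q ⟨x.1, g • x.2⟩ := by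
  obtain ⟨⟨K, hK⟩, c⟩ := x
  obtain ⟨a, rfl⟩ := QuotientGroup.mk_surjective c
  apply Subtype.ext
  ext y
  rw [Set.powersetCard.coe_smul, ← Finset.inv_smul_mem_iff, mem_cosetFinset, mem_cosetFinset]
  show ((g⁻¹ * y : G) : G ⧸ K) = (a : G ⧸ K) ↔ (y : G ⧸ K) = ((g * a : G) : G ⧸ K)
  rw [QuotientGroup.eq, QuotientGroup.eq]
  simp [mul_assoc]

theorem mem_range_cosetFinset_of_card_stabilizer (q : ℕ) (hq : 0 < q) (S : Set.powersetCard G q)
    (hT : Nat.card (stabilizer G S) = q) : S ∈ Set.range (cosetFinset (G := G) q) := by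
  set T := stabilizer G S with hTdef
  have hne : (S : Finset G).Nonempty := by
    rw [← Finset.card_pos, S.2]; exact hq
  obtain ⟨s, hs⟩ := hne
  have hTS : ∀ t ∈ T, ∀ x ∈ (S : Finset G), t * x ∈ (S : Finset G) := by
    intro t ht x hx
    have h1 : t • S = S := ht
    have h2 : t • (S : Finset G) = (S : Finset G) := by
      rw [← Set.powersetCard.coe_smul, h1]
    rw [← h2]
    exact Finset.smul_mem_smul_finset hx
  have hR : (fun t => t * s) '' (T : Set G) = ((S : Finset G) : Set G) := by
    apply Set.eq_of_subset_of_ncard_le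
    · rintro _ ⟨t, ht, rfl⟩
      exact hTS t ht s hs
    · rw [Set.ncard_image_of_injective _ (mul_left_injective s), Set.ncard_coe_finset, S.2]
      exact hT.symm.le
    · exact Set.toFinite _
  let K : Subgroup G := T.map (MulAut.conj s⁻¹).toMonoidHom
  have hK : Nat.card K = q := by
    rw [← hT]
    exact Subgroup.card_map_of_injective (MulAut.conj s⁻¹).injective
  refine ⟨⟨⟨K, hK⟩, (s : G ⧸ K)⟩, ?_⟩
  apply Subtype.ext
  ext g
  rw [mem_cosetFinset, QuotientGroup.eq, ← Finset.mem_coe, ← hR]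
  constructor
  · rintro ⟨t, ht, hts⟩
    have hts' : s⁻¹ * t * s⁻¹⁻¹ = g⁻¹ * s := hts
    refine ⟨t⁻¹, T.inv_mem ht, ?_⟩
    have : t = s * g⁻¹ := by
      have := congrArg (fun w => s * w * s⁻¹) hts'
      simpa [mul_assoc] using this
    rw [this]; simp
  · rintro ⟨t, ht, rfl⟩
    refine ⟨t⁻¹, T.inv_mem ht, ?_⟩
    show s⁻¹ * t⁻¹ * s⁻¹⁻¹ = (t * s)⁻¹ * s
    simp [mul_assoc]

theorem wielandt_count (p β m : ℕ) (hp : p.Prime) (hG : Nat.card G = p ^ β * m) :
    (Nat.card G).choose (p ^ β) ≡
      Nat.card {K : Subgroup G // Nat.card K = p ^ β} * m [MOD p * m] := by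
  set q := p ^ β with hq
  have hq0 : 0 < q := pow_pos hp.pos _
  rw [← Set.powersetCard.card]
  have hA : ∀ (g : G) (x : Set.powersetCard G q), x ∈ Set.range (cosetFinset (G := G) q) →
      g • x ∈ Set.range (cosetFinset (G := G) q) := by
    rintro g _ ⟨x, rfl⟩
    exact ⟨_, (smul_cosetFinset q g x).symm⟩
  have hstab : ∀ S : Set.powersetCard G q, S ∉ Set.range (cosetFinset (G := G) q) →
      p * m ∣ (stabilizer G S).index := by
    intro S hS
    have h1 : Nat.card (stabilizer G S) ∣ q := by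
      have := card_dvd_of_mul_invariant (stabilizer G S) (S : Finset G) (by
        intro t ht x hx
        have h1 : t • S = S := ht
        have h2 : t • (S : Finset G) = (S : Finset G) := by
          rw [← Set.powersetCard.coe_smul, h1]
        rw [← h2]
        exact Finset.smul_mem_smul_finset hx)
      rwa [S.2] at this
    have h2 : Nat.card (stabilizer G S) ≠ q :=
      fun h => hS (mem_range_cosetFinset_of_card_stabilizer q hq0 S h)
    obtain ⟨j, hj, hjc⟩ := (Nat.dvd_prime_pow hp).mp h1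
    have hjlt : j < β := by
      rcases hj.lt_or_eq with h | h
      · exact h
      · exact absurd (by rw [hjc, h]) h2
    have h3 := (stabilizer G S).card_mul_index
    rw [hjc, hG] at h3
    obtain ⟨d, rfl⟩ : ∃ d, β = j + 1 + d := ⟨β - (j + 1), by omega⟩
    have h4 : (stabilizer G S).index = p ^ d * (p * m) := by
      have : p ^ j * (stabilizer G S).index = p ^ j * (p ^ d * (p * m)) := by
        rw [h3, hq]; ring
      exact Nat.eq_of_mul_eq_mul_left (pow_pos hp.pos _) this
    rw [h4]
    exact Dvd.intro_left _ rfl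
  have h := card_modEq_of_invariant (H := G) _ hA (p * m) hstab
  have hcard : Nat.card (Set.range (cosetFinset (G := G) q)) =
      Nat.card {K : Subgroup G // Nat.card K = q} * m := by
    rw [Nat.card_range_of_injective (cosetFinset_injective q)]
    haveI : Fintype {K : Subgroup G // Nat.card K = q} := Fintype.ofFinite _
    rw [Nat.card_sigma]
    have : ∀ K : {K : Subgroup G // Nat.card K = q}, Nat.card (G ⧸ K.1) = m := by
      intro K
      have h3 := K.1.card_mul_index
      rw [K.2, hG] at h3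
      exact Nat.eq_of_mul_eq_mul_left hq0 h3
    simp only [this, Finset.sum_const, Finset.card_univ, smul_eq_mul, Nat.card_eq_fintype_card]
  rw [hcard] at h
  exact h

end

/-- Frobenius/Wielandt: the number of subgroups of order `p ^ β` is `1` modulo `p`. -/
theorem card_subgroups_modEq_one [Finite G] (p β : ℕ) (hp : p.Prime) (hdiv : p ^ β ∣ Nat.card G) :
    Nat.card {H : Subgroup G // Nat.card H = p ^ β} ≡ 1 [MOD p] := by
  classical
  haveI : Fact p.Prime := ⟨hp⟩
  obtain ⟨m, hm⟩ := hdiv
  have hm0 : 0 < m := by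
    rcases Nat.eq_zero_or_pos m with h | h
    · rw [h, mul_zero] at hm
      exact absurd hm Nat.card_pos.ne'
    · exact h
  have h1 := wielandt_count p β m hp hm
  rw [hm, choose_eq_mul_choose_pred _ _ (pow_pos hp.pos _) hm0, mul_comm p m,
    mul_comm (Nat.card _) m] at h1
  have h2 := Nat.ModEq.mul_left_cancel' hm0.ne' h1
  exact h2.symm.trans (choose_pred_modEq_one p β m hm0)

end Cfsg.Agent.Lib.Helper21
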