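import Cfsg.Agent.Lib.Helper21.Basic
import Cfsg.Agent.Lib.Helper21.Wielandt

set_option autoImplicit false
open Pointwise MulAction

namespace Cfsg.Agent.Lib.Helper21

/-- number of solutions of `x ^ n = 1`. -/
noncomputable def powCard (G : Type*) [Group G] (n : ℕ) : ℕ := Nat.card {g : G // g ^ n = 1}

theorem powCard_gcd (G : Type*) [Group G] [Finite G] (n : ℕ) :
    powCard G n = powCard G (Nat.gcd n (Nat.card G)) := by
  unfold powCard
  apply Nat.card_congr
  apply Equiv.subtypeEquivRight
  intro g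
  constructor
  · intro h
    rw [← orderOf_dvd_iff_pow_eq_one] at h ⊢
    exact Nat.dvd_gcd h (orderOf_dvd_natCard g)
  · intro h
    rw [← orderOf_dvd_iff_pow_eq_one] at h ⊢
    exact h.trans (Nat.gcd_dvd_left _ _)

theorem powCard_congr {G H : Type*} [Group G] [Group H] (e : G ≃* H) (n : ℕ) :
    powCard G n = powCard H n := by
  unfold powCard
  apply Nat.card_congr
  refine e.toEquiv.subtypeEquiv ?_
  intro g
  constructor
  · intro h
    show e g ^ n = 1
    rw [← map_pow, h, map_one]
  · intro h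
    have h' : e g ^ n = 1 := h
    rw [← map_pow] at h'
    exact e.injective (h'.trans (map_one e).symm)

/-- free actions -/
theorem card_dvd_of_free {U Y : Type*} [Group U] [MulAction U Y] [Finite Y]
    (h : ∀ (u : U) (y : Y), u • y = y → u = 1) : Nat.card U ∣ Nat.card Y := by
  apply dvd_card_of_dvd_orbits (H := U)
  intro y
  have hinj : Function.Injective (fun t : U => t • y) := by
    intro a b hab
    have h1 : (b⁻¹ * a) • y = y := by
      rw [mul_smul]
      have : a • y = b • y := hab
      rw [this, inv_smul_smul]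
    have := h _ _ h1
    exact (inv_mul_eq_one.mp this).symm
  have : Nat.card (orbit U y) = Nat.card U := Nat.card_range_of_injective hinj
  rw [this]

/-- class sums -/
theorem dvd_sum_of_class_function {G : Type*} [Group G] [Fintype G] (f : G → ℕ) (k : ℕ)
    (hf : ∀ g y : G, f (g * y * g⁻¹) = f y)
    (hk : ∀ y : G, k ∣ (Subgroup.centralizer ({y} : Set G)).index * f y) :
    k ∣ ∑ y : G, f y := by
  classical
  rw [← Finset.sum_fiberwise Finset.univ (fun y : G => ConjClasses.mk y) f]
  apply Finset.dvd_sum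
  intro c _
  obtain ⟨y₀, rfl⟩ := ConjClasses.mk_surjective c
  · have h1 : ∀ y ∈ Finset.univ.filter (fun y : G => ConjClasses.mk y = ConjClasses.mk y₀),
        f y = f y₀ := by
      intro y hy
      rw [Finset.mem_filter, ConjClasses.mk_eq_mk_iff_isConj, isConj_comm, isConj_iff] at hy
      obtain ⟨g, hg⟩ := hy.2
      rw [← hg, hf]
    rw [Finset.sum_congr rfl h1, Finset.sum_const, smul_eq_mul]
    have h2 : (Finset.univ.filter (fun y : G => ConjClasses.mk y = ConjClasses.mk y₀)).card =
        (Subgroup.centralizer ({y₀} : Set G)).index := by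
      rw [index_centralizer_eq_ncard_carrier, Set.ncard_eq_toFinset_card']
      congr 1
      ext y
      simp [ConjClasses.mem_carrier_iff_mk_eq]
    rw [h2]
    exact hk y₀

theorem dvd_card_pairs {G : Type*} [Group G] [Finite G] (R : G → G → Prop) (k : ℕ)
    (hR : ∀ g y z : G, R y z → R (g * y * g⁻¹) (g * z * g⁻¹))
    (hk : ∀ y : G, k ∣ (Subgroup.centralizer ({y} : Set G)).index * Nat.card {z : G // R y z}) :
    k ∣ Nat.card {yz : G × G // R yz.1 yz.2} := by
  classical
  haveI := Fintype.ofFinite G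
  rw [Nat.card_congr (Equiv.subtypeProdEquivSigmaSubtype R), Nat.card_sigma]
  apply dvd_sum_of_class_function _ _ _ hk
  intro g y
  apply Nat.card_congr
  refine
    { toFun := fun z => ⟨g⁻¹ * z.1 * g, ?_⟩
      invFun := fun z => ⟨g * z.1 * g⁻¹, hR g y z.1 z.2⟩
      left_inv := fun z => Subtype.ext (by simp [mul_assoc])
      right_inv := fun z => Subtype.ext (by simp [mul_assoc]) }
  have := hR g⁻¹ _ _ z.2
  simpa [mul_assoc] using this

theorem exists_crt_exponents (M k : ℕ) (h : Nat.Coprime M k) :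
    ∃ a b : ℕ, a ≡ 1 [MOD M] ∧ a ≡ 0 [MOD k] ∧ b ≡ 0 [MOD M] ∧ b ≡ 1 [MOD k] := by
  obtain ⟨a, ha⟩ := Nat.chineseRemainder h 1 0
  obtain ⟨b, hb⟩ := Nat.chineseRemainder h 0 1
  exact ⟨a, b, ha.1, ha.2, hb.1, hb.2⟩

theorem pow_eq_pow_of_modEq {G : Type*} [Group G] {x : G} {M i j : ℕ} (hx : x ^ M = 1)
    (h : i ≡ j [MOD M]) : x ^ i = x ^ j :=
  pow_eq_pow_iff_modEq.mpr (h.of_dvd (orderOf_dvd_of_pow_eq_one hx))

theorem card_decomp {G : Type*} [Group G] (M k : ℕ) (h : Nat.Coprime M k) (PS PW : G → Prop)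
    (hP : ∀ y z : G, y ^ M = 1 → z ^ k = 1 → Commute y z → (PS (y * z) ↔ PW y)) :
    Nat.card {x : G // x ^ (M * k) = 1 ∧ PS x} =
      Nat.card {yz : G × G // (yz.1 ^ M = 1 ∧ PW yz.1) ∧ (yz.2 ^ k = 1 ∧ Commute yz.1 yz.2)} := by
  obtain ⟨a, b, haM, hak, hbM, hbk⟩ := exists_crt_exponents M k h
  have hab : a + b ≡ 1 [MOD M * k] := by
    rw [← Nat.modEq_and_modEq_iff_modEq_mul h]
    exact ⟨haM.add hbM, hak.add hbk⟩
  have hy : ∀ x : G, x ^ (M * k) = 1 → (x ^ a) ^ M = 1 := by
    intro x hx
    obtain ⟨c, rfl⟩ := (Nat.modEq_zero_iff_dvd).mp hak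
    rw [← pow_mul, show k * c * M = M * k * c by ring, pow_mul, hx, one_pow]
  have hz : ∀ x : G, x ^ (M * k) = 1 → (x ^ b) ^ k = 1 := by
    intro x hx
    obtain ⟨c, rfl⟩ := (Nat.modEq_zero_iff_dvd).mp hbM
    rw [← pow_mul, show M * c * k = M * k * c by ring, pow_mul, hx, one_pow]
  have hxy : ∀ x : G, x ^ (M * k) = 1 → x ^ a * x ^ b = x := by
    intro x hx
    rw [← pow_add, pow_eq_pow_of_modEq hx hab, pow_one]
  apply Nat.card_congr
  refine
    { toFun := fun x => ⟨(x.1 ^ a, x.1 ^ b), ⟨hy _ x.2.1, ?_⟩, hz _ x.2.1,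
        (Commute.refl x.1).pow_pow a b⟩
      invFun := fun w => ⟨w.1.1 * w.1.2, ?_, ?_⟩
      left_inv := fun x => Subtype.ext (hxy _ x.2.1)
      right_inv := ?_ }
  · have := hP (x.1 ^ a) (x.1 ^ b) (hy _ x.2.1) (hz _ x.2.1) ((Commute.refl x.1).pow_pow a b)
    rw [hxy _ x.2.1] at this
    exact this.mp x.2.2
  · rw [w.2.2.2.mul_pow, pow_mul, w.2.1.1, one_pow, mul_comm M k, pow_mul, w.2.2.1, one_pow, one_mul]
  · exact (hP _ _ w.2.1.1 w.2.2.1 w.2.2.2).mpr w.2.1.2
  · rintro ⟨⟨y, z⟩, ⟨h1, h2⟩, h3, h4⟩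
    apply Subtype.ext
    have h4' : Commute y z := h4
    have h1' : y ^ M = 1 := h1
    have h3' : z ^ k = 1 := h3
    show ((y * z) ^ a, (y * z) ^ b) = (y, z)
    rw [h4'.mul_pow, h4'.mul_pow, pow_eq_pow_of_modEq h1' haM, pow_eq_pow_of_modEq h3' hak,
      pow_eq_pow_of_modEq h1' hbM, pow_eq_pow_of_modEq h3' hbk]
    simp

theorem powCard_quotient_central {C : Type*} [Group C] (Z : Subgroup C) [Z.Normal] [Finite Z]
    (hZ : Z ≤ Subgroup.center C) (k : ℕ) (hk : (Nat.card Z).Coprime k) :
    powCard C k = powCard (C ⧸ Z) k := by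
  unfold powCard
  let φ : {z : C // z ^ k = 1} → {w : C ⧸ Z // w ^ k = 1} := fun z =>
    ⟨(z.1 : C ⧸ Z), by rw [← QuotientGroup.mk_pow, z.2]; rfl⟩
  apply Nat.card_eq_of_bijective φ
  constructor
  · intro z₁ z₂ h12
    have h1 : (z₁.1 : C ⧸ Z) = (z₂.1 : C ⧸ Z) := congrArg Subtype.val h12
    rw [QuotientGroup.eq] at h1
    set t := z₁.1⁻¹ * z₂.1 with ht
    have hz2 : z₂.1 = z₁.1 * t := by rw [ht]; group
    have hcomm : Commute z₁.1 t := ((Subgroup.mem_center_iff.mp (hZ h1)) z₁.1)
    have htk : t ^ k = 1 := by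
      have := z₂.2
      rw [hz2, hcomm.mul_pow, z₁.2, one_mul] at this
      exact this
    have htZ : t ^ Nat.card Z = 1 := by
      have := pow_card_eq_one' (G := Z) (x := ⟨t, h1⟩)
      exact congrArg Subtype.val this
    have h2 : orderOf t ∣ Nat.gcd (Nat.card Z) k :=
      Nat.dvd_gcd (orderOf_dvd_of_pow_eq_one htZ) (orderOf_dvd_of_pow_eq_one htk)
    rw [hk.gcd_eq_one, Nat.dvd_one, orderOf_eq_one_iff] at h2
    apply Subtype.ext
    rw [hz2, h2, mul_one]
  · rintro ⟨w, hw⟩
    obtain ⟨z, rfl⟩ := QuotientGroup.mk_surjective w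
    have hzk : z ^ k ∈ Z := by
      rw [← QuotientGroup.eq_one_iff, QuotientGroup.mk_pow]; exact hw
    obtain ⟨t, ht⟩ := (powCoprime hk).surjective (⟨z ^ k, hzk⟩⁻¹ : Z)
    have ht' : t.1 ^ k = (z ^ k)⁻¹ := by
      have := congrArg Subtype.val ht
      simpa using this
    have hcomm : Commute z t.1 := ((Subgroup.mem_center_iff.mp (hZ t.2)) z)
    refine ⟨⟨z * t.1, by rw [hcomm.mul_pow, ht', mul_inv_cancel]⟩, ?_⟩
    apply Subtype.ext
    show ((z * t.1 : C) : C ⧸ Z) = (z : C ⧸ Z)
    exact QuotientGroup.mk_mul_of_mem z t.2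

theorem totient_dvd_card_pairs {G : Type*} [Group G] [Finite G] (M k : ℕ) (hM : 0 < M) :
    Nat.totient M ∣ Nat.card {yz : G × G //
      (yz.1 ^ M = 1 ∧ orderOf yz.1 = M) ∧ (yz.2 ^ k = 1 ∧ Commute yz.1 yz.2)} := by
  classical
  haveI : NeZero M := ⟨hM.ne'⟩
  letI : MulAction (ZMod M)ˣ {yz : G × G //
      (yz.1 ^ M = 1 ∧ orderOf yz.1 = M) ∧ (yz.2 ^ k = 1 ∧ Commute yz.1 yz.2)} :=
    { smul := fun u w => ⟨(w.1.1 ^ (u : ZMod M).val, w.1.2),
        ⟨by
          show (w.1.1 ^ (u : ZMod M).val) ^ M = 1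
          rw [← pow_mul, mul_comm, pow_mul, w.2.1.1, one_pow], by
          show orderOf (w.1.1 ^ (u : ZMod M).val) = M
          rw [Nat.Coprime.orderOf_pow, w.2.1.2]
          rw [w.2.1.2]
          exact (ZMod.val_coe_unit_coprime u).symm⟩, w.2.2.1, w.2.2.2.pow_left _⟩
      one_smul := by
        intro w
        apply Subtype.ext
        show (w.1.1 ^ ((1 : (ZMod M)ˣ) : ZMod M).val, w.1.2) = w.1
        rw [Units.val_one, ZMod.val_one_eq_one_mod,
          pow_eq_pow_of_modEq w.2.1.1 (Nat.mod_modEq 1 M), pow_one]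
      mul_smul := by
        intro u v w
        apply Subtype.ext
        show (w.1.1 ^ ((u * v : (ZMod M)ˣ) : ZMod M).val, w.1.2) =
          ((w.1.1 ^ (v : ZMod M).val) ^ (u : ZMod M).val, w.1.2)
        rw [Units.val_mul, ZMod.val_mul, pow_eq_pow_of_modEq w.2.1.1 (Nat.mod_modEq _ M),
          mul_comm, pow_mul] }
  have h := card_dvd_of_free (U := (ZMod M)ˣ) (Y := {yz : G × G //
      (yz.1 ^ M = 1 ∧ orderOf yz.1 = M) ∧ (yz.2 ^ k = 1 ∧ Commute yz.1 yz.2)}) (by
    intro u w huw
    have h1 : w.1.1 ^ (u : ZMod M).val = w.1.1 := congrArg (fun t => t.1.1) huw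
    have h2 : w.1.1 ^ (u : ZMod M).val = w.1.1 ^ 1 := by rw [h1, pow_one]
    rw [pow_eq_pow_iff_modEq, w.2.1.2] at h2
    have h3 := (ZMod.natCast_eq_natCast_iff _ _ _).mpr h2
    rw [ZMod.natCast_zmod_val, Nat.cast_one] at h3
    exact Units.ext h3)
  rwa [Nat.card_eq_fintype_card, ZMod.card_units_eq_totient] at h

universe u

theorem dvd_card_pairs_of_ih {G : Type u} [Group G] [Finite G]
    (IH : ∀ (Q : Type u) [Group Q] [Finite Q], Nat.card Q < Nat.card G →
      ∀ n, n ∣ Nat.card Q → n ∣ powCard Q n)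
    (M k : ℕ) (hMk : Nat.Coprime M k) (hk : k ∣ Nat.card G) (PW : G → Prop)
    (hPW : ∀ g y, PW y → PW (g * y * g⁻¹)) (hPW1 : ∀ y, PW y → y ≠ 1) :
    k ∣ Nat.card {yz : G × G //
      (yz.1 ^ M = 1 ∧ PW yz.1) ∧ (yz.2 ^ k = 1 ∧ Commute yz.1 yz.2)} := by
  classical
  apply dvd_card_pairs (fun y z => (y ^ M = 1 ∧ PW y) ∧ (z ^ k = 1 ∧ Commute y z))
  · rintro g y z ⟨⟨h1, h2⟩, h3, h4⟩
    refine ⟨⟨by rw [conj_pow, h1]; simp, hPW g y h2⟩, by rw [conj_pow, h3]; simp, ?_⟩
    show (g * y * g⁻¹) * (g * z * g⁻¹) = (g * z * g⁻¹) * (g * y * g⁻¹)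
    simp only [mul_assoc, inv_mul_cancel_left]
    rw [← mul_assoc y z, h4.eq, mul_assoc]
  · intro y
    by_cases hy : y ^ M = 1 ∧ PW y
    · set C := Subgroup.centralizer ({y} : Set G) with hC
      have hcard : Nat.card {z : G // (y ^ M = 1 ∧ PW y) ∧ (z ^ k = 1 ∧ Commute y z)} =
          powCard C k := by
        unfold powCard
        apply Nat.card_congr
        refine
          { toFun := fun z => ⟨⟨z.1, Subgroup.mem_centralizer_singleton_iff.mpr z.2.2.2.symm.eq⟩,
              Subtype.ext z.2.2.1⟩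
            invFun := fun c => ⟨c.1.1, hy, congrArg Subtype.val c.2,
              (Subgroup.mem_centralizer_singleton_iff.mp c.1.2).symm⟩
            left_inv := fun z => rfl
            right_inv := fun c => rfl }
      rw [hcard]
      have hyC : y ∈ C := Subgroup.mem_centralizer_singleton_iff.mpr rfl
      let Z : Subgroup C := Subgroup.zpowers (⟨y, hyC⟩ : C)
      have hZc : Z ≤ Subgroup.center C := by
        rw [Subgroup.zpowers_le, Subgroup.mem_center_iff]
        intro c
        apply Subtype.ext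
        exact (Subgroup.mem_centralizer_singleton_iff.mp c.2)
      haveI : Z.Normal := by
        constructor
        intro n hn g
        have := Subgroup.mem_center_iff.mp (hZc hn) g
        rw [this, mul_inv_cancel_right]
        exact hn
      have hZcard : Nat.card Z = orderOf y := by
        rw [Nat.card_zpowers, Subgroup.orderOf_mk]
      have hZk : (Nat.card Z).Coprime k := by
        rw [hZcard]
        exact Nat.Coprime.coprime_dvd_left (orderOf_dvd_of_pow_eq_one hy.1) hMk
      rw [powCard_quotient_central Z hZc k hZk]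
      have hmul : Nat.card (C ⧸ Z) * Nat.card Z = Nat.card C :=
        (Subgroup.card_eq_card_quotient_mul_card_subgroup Z).symm
      have hZ2 : 2 ≤ Nat.card Z := by
        rw [hZcard]
        have h1 : orderOf y ≠ 1 := fun h => hPW1 y hy.2 (orderOf_eq_one_iff.mp h)
        have h0 : 0 < orderOf y := orderOf_pos y
        omega
      have hlt : Nat.card (C ⧸ Z) < Nat.card G := by
        have h1 : Nat.card C ≤ Nat.card G := Subgroup.card_le_card_group C
        have h2 : 0 < Nat.card (C ⧸ Z) := Nat.card_pos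
        nlinarith
      have h1 := IH (C ⧸ Z) hlt _ (Nat.gcd_dvd_right k (Nat.card (C ⧸ Z)))
      rw [← powCard_gcd] at h1
      have h2 : Nat.gcd k (Nat.card C) = Nat.gcd k (Nat.card (C ⧸ Z)) := by
        rw [← hmul]
        exact Nat.Coprime.gcd_mul_right_cancel_right _ hZk
      have h3 : k ∣ C.index * Nat.gcd k (Nat.card C) := by
        rw [← Nat.gcd_mul_left]
        apply Nat.dvd_gcd (Dvd.intro_left _ rfl)
        rw [mul_comm, C.card_mul_index]
        exact hk
      rw [h2] at h3
      exact h3.trans (Nat.mul_dvd_mul_left _ h1)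
    · have : IsEmpty {z : G // (y ^ M = 1 ∧ PW y) ∧ (z ^ k = 1 ∧ Commute y z)} :=
        ⟨fun z => hy z.2.1⟩
      rw [Nat.card_of_isEmpty, mul_zero]
      exact dvd_zero _

theorem card_split {α : Type*} [Finite α] (P Q : α → Prop) (h : ∀ a, Q a → P a) :
    Nat.card {a // P a} = Nat.card {a // Q a} + Nat.card {a // P a ∧ ¬ Q a} := by
  classical
  rw [← Nat.card_sum]
  apply Nat.card_congr
  refine ((Equiv.sumCompl (fun a : {a // P a} => Q a.1)).symm).trans ?_
  exact Equiv.sumCongr (Equiv.subtypeSubtypeEquivSubtype (fun {a} => h a))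
    (Equiv.subtypeSubtypeEquivSubtypeInter P (fun a => ¬ Q a))

theorem frobenius_aux (N : ℕ) : ∀ (G : Type u) [Group G] [Finite G], Nat.card G = N →
    ∀ n, n ∣ N → n ∣ powCard G n := by
  induction N using Nat.strong_induction_on with
  | _ N IHN =>
    intro G _ _ hG
    have IH : ∀ (Q : Type u) [Group Q] [Finite Q], Nat.card Q < Nat.card G →
        ∀ n, n ∣ Nat.card Q → n ∣ powCard Q n :=
      fun Q _ _ hQ n hn => IHN (Nat.card Q) (hG ▸ hQ) Q rfl n hn
    have hN0 : 0 < N := hG ▸ Nat.card_pos
    have inner : ∀ d n, n * d = N → n ∣ powCard G n := by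
      intro d
      induction d using Nat.strong_induction_on with
      | _ d IHd =>
        intro n hnd
        by_cases hd1 : d = 1
        · subst hd1
          rw [mul_one] at hnd
          subst hnd
          have : powCard G n = n := by
            unfold powCard
            rw [← hG]
            exact Nat.card_congr (Equiv.subtypeUnivEquiv (fun g => pow_card_eq_one'))
          rw [this]
        · obtain ⟨p, hp, hpd⟩ := Nat.exists_prime_and_dvd hd1
          obtain ⟨d', rfl⟩ := hpd
          have hd'0 : 0 < d' := by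
            rcases Nat.eq_zero_or_pos d' with h | h
            · subst h; simp at hnd; omega
            · exact h
          have hn0 : n ≠ 0 := by
            rintro rfl; simp at hnd; omega
          have hlt : d' < p * d' := by
            have := hp.two_le
            nlinarith
          have h1 : n * p ∣ powCard G (n * p) := IHd d' hlt (n * p) (by rw [← hnd]; ring)
          obtain ⟨e, k, hpk, hn⟩ := Nat.exists_eq_pow_mul_and_not_dvd hn0 p hp.ne_one
          set M := p ^ (e + 1) with hM
          have hMk : Nat.Coprime M k :=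
            Nat.Coprime.pow_left _ ((Nat.Prime.coprime_iff_not_dvd hp).mpr hpk)
          have hnp : n * p = M * k := by rw [hn, hM]; ring
          have hkN : k ∣ Nat.card G := by
            rw [hG, ← hnd, hn]
            exact Dvd.intro_left _ rfl |>.mul_right _
          rw [hnp] at h1
          have hsplit := card_split (α := G) (fun x => x ^ (M * k) = 1) (fun x => x ^ n = 1) (by
            intro x hx
            show x ^ (M * k) = 1
            rw [← hnp, pow_mul, hx, one_pow])
          have hP : ∀ y z : G, y ^ M = 1 → z ^ k = 1 → Commute y z →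
              (¬ (y * z) ^ n = 1 ↔ orderOf y = M) := by
            intro y z hy hz hc
            have hzn : z ^ n = 1 := by rw [hn, mul_comm, pow_mul, hz, one_pow]
            rw [hc.mul_pow, hzn, mul_one]
            obtain ⟨j, hj, hoj⟩ := (Nat.dvd_prime_pow hp).mp (orderOf_dvd_of_pow_eq_one hy)
            constructor
            · intro hne
              by_contra hM'
              apply hne
              have hje : j ≤ e := by
                rcases Nat.lt_or_ge e j with h | h
                · exfalso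
                  apply hM'
                  rw [hoj, hM]
                  congr 1
                  omega
                · exact h
              rw [← orderOf_dvd_iff_pow_eq_one, hoj, hn]
              exact (pow_dvd_pow p hje).mul_right _
            · intro hM' hyn
              rw [← orderOf_dvd_iff_pow_eq_one, hM', hM, hn, pow_succ] at hyn
              exact hpk (Nat.dvd_of_mul_dvd_mul_left (pow_pos hp.pos e) hyn)
          have hdec := card_decomp M k hMk (fun x : G => ¬ x ^ n = 1) (fun y => orderOf y = M) hP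
          have hi := totient_dvd_card_pairs (G := G) M k (pow_pos hp.pos _)
          have hii := dvd_card_pairs_of_ih IH M k hMk hkN (fun y => orderOf y = M)
            (by
              intro g y hy
              show orderOf (g * y * g⁻¹) = M
              rw [← hy]
              have hs : SemiconjBy g y (g * y * g⁻¹) := by
                show g * y = g * y * g⁻¹ * g
                simp
              exact (hs.orderOf_eq g).symm) (by
              rintro y hy rfl
              rw [orderOf_one] at hy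
              have : 1 < M := Nat.one_lt_pow (by omega) hp.one_lt
              omega)
          have hi' : p ^ e ∣ Nat.card {yz : G × G //
              (yz.1 ^ M = 1 ∧ orderOf yz.1 = M) ∧ (yz.2 ^ k = 1 ∧ Commute yz.1 yz.2)} := by
            refine Dvd.dvd.trans ?_ hi
            rw [hM, Nat.totient_prime_pow_succ hp]
            exact Dvd.intro _ rfl
          have hn' : n ∣ Nat.card {yz : G × G //
              (yz.1 ^ M = 1 ∧ orderOf yz.1 = M) ∧ (yz.2 ^ k = 1 ∧ Commute yz.1 yz.2)} := by
            rw [hn]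
            exact Nat.Coprime.mul_dvd_of_dvd_of_dvd
              (Nat.Coprime.pow_left _ ((Nat.Prime.coprime_iff_not_dvd hp).mpr hpk)) hi' hii
          rw [← hdec] at hn'
          have h2 : n ∣ powCard G (M * k) := by
            refine Dvd.dvd.trans ?_ h1
            rw [← hnp]; exact Dvd.intro _ rfl
          unfold powCard at h2 ⊢
          rw [hsplit] at h2
          exact (Nat.dvd_add_left hn').mp h2
    rintro n ⟨d, hd⟩
    exact inner d n hd.symm

/-- **Frobenius' theorem**. -/
theorem frobenius_dvd (G : Type u) [Group G] [Finite G] (n : ℕ) (hn : n ∣ Nat.card G) :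
    n ∣ powCard G n := frobenius_aux _ G rfl n hn

theorem frobenius_gcd_dvd (G : Type u) [Group G] [Finite G] (n : ℕ) :
    Nat.gcd n (Nat.card G) ∣ powCard G n := by
  rw [powCard_gcd]
  exact frobenius_dvd G _ (Nat.gcd_dvd_right _ _)

theorem dvd_card_pairs_full {G : Type u} [Group G] [Finite G]
    (k : ℕ) (hk : k ∣ Nat.card G) (PW : G → Prop)
    (hPW : ∀ g y, PW y → PW (g * y * g⁻¹)) :
    k ∣ Nat.card {yz : G × G // PW yz.1 ∧ (yz.2 ^ k = 1 ∧ Commute yz.1 yz.2)} := by
  classical
  apply dvd_card_pairs (fun y z => PW y ∧ (z ^ k = 1 ∧ Commute y z))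
  · rintro g y z ⟨h2, h3, h4⟩
    refine ⟨hPW g y h2, by rw [conj_pow, h3]; simp, ?_⟩
    show (g * y * g⁻¹) * (g * z * g⁻¹) = (g * z * g⁻¹) * (g * y * g⁻¹)
    simp only [mul_assoc, inv_mul_cancel_left]
    rw [← mul_assoc y z, h4.eq, mul_assoc]
  · intro y
    by_cases hy : PW y
    · set C := Subgroup.centralizer ({y} : Set G) with hC
      have hcard : Nat.card {z : G // PW y ∧ (z ^ k = 1 ∧ Commute y z)} =
          powCard C k := by
        unfold powCard
        apply Nat.card_congr
        refine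
          { toFun := fun z => ⟨⟨z.1, Subgroup.mem_centralizer_singleton_iff.mpr z.2.2.2.symm.eq⟩,
              Subtype.ext z.2.2.1⟩
            invFun := fun c => ⟨c.1.1, hy, congrArg Subtype.val c.2,
              (Subgroup.mem_centralizer_singleton_iff.mp c.1.2).symm⟩
            left_inv := fun z => rfl
            right_inv := fun c => rfl }
      rw [hcard]
      have h1 := frobenius_gcd_dvd C k
      have h3 : k ∣ C.index * Nat.gcd k (Nat.card C) := by
        rw [← Nat.gcd_mul_left]
        apply Nat.dvd_gcd (Dvd.intro_left _ rfl)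
        rw [mul_comm, C.card_mul_index]
        exact hk
      exact h3.trans (Nat.mul_dvd_mul_left _ h1)
    · have : IsEmpty {z : G // PW y ∧ (z ^ k = 1 ∧ Commute y z)} :=
        ⟨fun z => hy z.2.1⟩
      rw [Nat.card_of_isEmpty, mul_zero]
      exact dvd_zero _

end Cfsg.Agent.Lib.Helper21
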