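import Cfsg.Agent.Lib.Helper21.J1Data

/-!
Kernel-evaluated checks on the tables of `J1Data`.
-/

set_option autoImplicit false

namespace Cfsg.Agent.Lib.Helper21.J1

def sq (x : ℕ) : ℕ := mul x x
def p5 (x : ℕ) : ℕ := mul (sq (sq x)) x
def p6 (x : ℕ) : ℕ := sq (mul (sq x) x)
def p7 (x : ℕ) : ℕ := mul (p6 x) x
def p10 (x : ℕ) : ℕ := sq (p5 x)
def p11 (x : ℕ) : ℕ := mul (p10 x) x
def p15 (x : ℕ) : ℕ := (fun y => mul (sq y) y) (p5 x)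
def p19 (x : ℕ) : ℕ := (fun y => mul (mul (sq (sq (sq y))) y) x) (sq x)

def pw (x : ℕ) : ℕ → ℕ
  | 0 => Onep
  | n + 1 => mul (pw x n) x

def OrdOK (x code : ℕ) : Prop :=
  (code = 0 ∧ p6 x = Onep) ∨ (code = 1 ∧ p7 x = Onep) ∨ (code = 2 ∧ p10 x = Onep) ∨
  (code = 3 ∧ p11 x = Onep) ∨ (code = 4 ∧ p15 x = Onep) ∨ (code = 5 ∧ p19 x = Onep)

instance (x code : ℕ) : Decidable (OrdOK x code) := by unfold OrdOK; infer_instance

def hi (t : ℕ) : ℕ := t / 2 ^ 490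

def EntryOK (t : ℕ) : Prop :=
  WF t ∧
  (hi t % 2048 < 1540 ∧ hi t / 2 ^ 11 % 128 < 114 ∧
    mul Xp t = mul (getU (hi t % 2048)) (getK (hi t / 2 ^ 11 % 128))) ∧
  (hi t / 2 ^ 18 % 2048 < 1540 ∧ hi t / 2 ^ 29 % 128 < 114 ∧
    mul Yp t = mul (getU (hi t / 2 ^ 18 % 2048)) (getK (hi t / 2 ^ 29 % 128))) ∧
  (hi t / 2 ^ 36 % 128 < 114 ∧ hi t / 2 ^ 43 < 21 ∧
    mul (getK (hi t / 2 ^ 36 % 128)) (getD (hi t / 2 ^ 43)) = t % 1024 ^ 49)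

instance (t : ℕ) : Decidable (EntryOK t) := by unfold EntryOK; infer_instance

theorem wf_basic : WF Xp ∧ WF Yp ∧ WF Onep ∧ WF aP ∧ WF bP := by decide +kernel

theorem rel_basic : p19 aP = Onep ∧ p6 bP = Onep ∧ mul bP aP = mul (pw aP 12) bP ∧
    p7 Xp = Onep ∧ p5 Yp = Onep ∧ getU 0 % 1024 ^ 49 = Onep := by decide +kernel

theorem kT_ok : ∀ j < 114, WF (getK j) ∧ getK j = mul (pw aP (j / 6)) (pw bP (j % 6)) := by
  decide +kernel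

theorem dT_ok : ∀ c < 21, WF (getD c) := by decide +kernel

end Cfsg.Agent.Lib.Helper21.J1
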