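import Cfsg.Agent.Lib.Helper21.J1Check

/-! Kernel checks of element orders, part 2. -/

set_option autoImplicit false

namespace Cfsg.Agent.Lib.Helper21.J1

theorem ord_ok4 : ∀ c < 3, ∀ j < 114, OrdOK (mul (getD (3 * 4 + c)) (getK j)) (hi (getD (3 * 4 + c)) / 8 ^ j % 8) := by
  decide +kernel

theorem ord_ok5 : ∀ c < 3, ∀ j < 114, OrdOK (mul (getD (3 * 5 + c)) (getK j)) (hi (getD (3 * 5 + c)) / 8 ^ j % 8) := by
  decide +kernel

theorem ord_ok6 : ∀ c < 3, ∀ j < 114, OrdOK (mul (getD (3 * 6 + c)) (getK j)) (hi (getD (3 * 6 + c)) / 8 ^ j % 8) := by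
  decide +kernel

end Cfsg.Agent.Lib.Helper21.J1
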