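import Cfsg.Agent.Lib.Helper21.J1Check

/-! Kernel checks of the coset table, part 2. -/

set_option autoImplicit false

namespace Cfsg.Agent.Lib.Helper21.J1

theorem uT_ok4 : ∀ i < 220, EntryOK (getU (220 * 4 + i)) := by decide +kernel

theorem uT_ok5 : ∀ i < 220, EntryOK (getU (220 * 5 + i)) := by decide +kernel

theorem uT_ok6 : ∀ i < 220, EntryOK (getU (220 * 6 + i)) := by decide +kernel

end Cfsg.Agent.Lib.Helper21.J1
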