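import Mathlib

/-!
Packed arithmetic for 7 × 7 matrices over `ZMod 11`: a matrix is one natural number, 49 digits in
base 1024 (row major).  `mul` multiplies two packed matrices with few `Nat` operations so that the
kernel can evaluate many products; `toM_mul` says that it computes the matrix product.
-/

set_option autoImplicit false

namespace Cfsg.Agent.Lib.Helper21.J1

/-- digit `j` in base 1024 -/
def D (x j : ℕ) : ℕ := x / 1024 ^ j % 1024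
/-- row `k`: seven digits -/
def R (x k : ℕ) : ℕ := x / 1024 ^ (7 * k) % 1024 ^ 7

def pk (s : ℕ → ℕ) : ℕ :=
  s 0 + s 1 * 1024 + s 2 * 1024 ^ 2 + s 3 * 1024 ^ 3 + s 4 * 1024 ^ 4 + s 5 * 1024 ^ 5 + s 6 * 1024 ^ 6

def pkR (r : ℕ → ℕ) : ℕ :=
  r 0 + r 1 * 1024 ^ 7 + r 2 * 1024 ^ 14 + r 3 * 1024 ^ 21 + r 4 * 1024 ^ 28 + r 5 * 1024 ^ 35
    + r 6 * 1024 ^ 42

def red (x : ℕ) : ℕ := pk (fun j => D x j % 11)

def lin (x : ℕ) (b : ℕ → ℕ) : ℕ :=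
  D x 0 * b 0 + D x 1 * b 1 + D x 2 * b 2 + D x 3 * b 3 + D x 4 * b 4 + D x 5 * b 5 + D x 6 * b 6

def mul (a b : ℕ) : ℕ := pkR (fun i => red (lin (R a i) (fun k => R b k)))

theorem dig7 (s0 s1 s2 s3 s4 s5 s6 x : ℕ) (h0 : s0 < 1024) (h1 : s1 < 1024) (h2 : s2 < 1024)
    (h3 : s3 < 1024) (h4 : s4 < 1024) (h5 : s5 < 1024) (h6 : s6 < 1024)
    (hx : x = s0 + s1 * 1024 + s2 * 1024 ^ 2 + s3 * 1024 ^ 3 + s4 * 1024 ^ 4 + s5 * 1024 ^ 5
      + s6 * 1024 ^ 6) :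
    x / 1024 ^ 0 % 1024 = s0 ∧ x / 1024 ^ 1 % 1024 = s1 ∧ x / 1024 ^ 2 % 1024 = s2 ∧
    x / 1024 ^ 3 % 1024 = s3 ∧ x / 1024 ^ 4 % 1024 = s4 ∧ x / 1024 ^ 5 % 1024 = s5 ∧
    x / 1024 ^ 6 % 1024 = s6 ∧ x < 1024 ^ 7 := by
  norm_num at hx ⊢
  omega

theorem D_pk (s : ℕ → ℕ) (hs : ∀ j < 7, s j < 1024) : ∀ j < 7, D (pk s) j = s j := by
  intro j hj
  obtain ⟨e0, e1, e2, e3, e4, e5, e6, -⟩ := dig7 (s 0) (s 1) (s 2) (s 3) (s 4) (s 5) (s 6) (pk s)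
    (hs 0 (by norm_num)) (hs 1 (by norm_num)) (hs 2 (by norm_num)) (hs 3 (by norm_num))
    (hs 4 (by norm_num)) (hs 5 (by norm_num)) (hs 6 (by norm_num)) rfl
  unfold D
  interval_cases j <;> assumption

theorem pk_lt (s : ℕ → ℕ) (hs : ∀ j < 7, s j < 1024) : pk s < 1024 ^ 7 :=
  (dig7 (s 0) (s 1) (s 2) (s 3) (s 4) (s 5) (s 6) (pk s)
    (hs 0 (by norm_num)) (hs 1 (by norm_num)) (hs 2 (by norm_num)) (hs 3 (by norm_num))
    (hs 4 (by norm_num)) (hs 5 (by norm_num)) (hs 6 (by norm_num)) rfl).2.2.2.2.2.2.2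

theorem pk_D (x : ℕ) (hx : x < 1024 ^ 7) : pk (fun j => D x j) = x := by
  unfold pk D
  norm_num at hx ⊢
  omega

theorem row7 (s0 s1 s2 s3 s4 s5 s6 x : ℕ) (h0 : s0 < 1024 ^ 7) (h1 : s1 < 1024 ^ 7)
    (h2 : s2 < 1024 ^ 7) (h3 : s3 < 1024 ^ 7) (h4 : s4 < 1024 ^ 7) (h5 : s5 < 1024 ^ 7)
    (h6 : s6 < 1024 ^ 7)
    (hx : x = s0 + s1 * 1024 ^ 7 + s2 * 1024 ^ 14 + s3 * 1024 ^ 21 + s4 * 1024 ^ 28
      + s5 * 1024 ^ 35 + s6 * 1024 ^ 42) :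
    x / 1024 ^ (7 * 0) % 1024 ^ 7 = s0 ∧ x / 1024 ^ (7 * 1) % 1024 ^ 7 = s1 ∧
    x / 1024 ^ (7 * 2) % 1024 ^ 7 = s2 ∧ x / 1024 ^ (7 * 3) % 1024 ^ 7 = s3 ∧
    x / 1024 ^ (7 * 4) % 1024 ^ 7 = s4 ∧ x / 1024 ^ (7 * 5) % 1024 ^ 7 = s5 ∧
    x / 1024 ^ (7 * 6) % 1024 ^ 7 = s6 := by
  norm_num at h0 h1 h2 h3 h4 h5 h6 hx ⊢
  omega

theorem R_pkR (r : ℕ → ℕ) (hr : ∀ i < 7, r i < 1024 ^ 7) : ∀ i < 7, R (pkR r) i = r i := by
  intro j hj
  obtain ⟨e0, e1, e2, e3, e4, e5, e6⟩ := row7 (r 0) (r 1) (r 2) (r 3) (r 4) (r 5) (r 6) (pkR r)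
    (hr 0 (by norm_num)) (hr 1 (by norm_num)) (hr 2 (by norm_num)) (hr 3 (by norm_num))
    (hr 4 (by norm_num)) (hr 5 (by norm_num)) (hr 6 (by norm_num)) rfl
  unfold R
  interval_cases j <;> assumption

theorem R_lt (x k : ℕ) : R x k < 1024 ^ 7 := Nat.mod_lt _ (by norm_num)

theorem D_R (x i j : ℕ) (hj : j < 7) : D (R x i) j = D x (7 * i + j) := by
  unfold D R
  have h7 : (1024 : ℕ) ^ 7 = 1024 ^ j * 1024 ^ (7 - j) := by
    rw [← pow_add]; congr 1; omega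
  rw [h7, Nat.mod_mul_right_div_self, Nat.mod_mod_of_dvd _ (dvd_pow_self _ (by omega)),
    Nat.div_div_eq_div_mul, ← pow_add]

theorem pk_lin (c : ℕ → ℕ) (f : ℕ → ℕ → ℕ) :
    c 0 * pk (f 0) + c 1 * pk (f 1) + c 2 * pk (f 2) + c 3 * pk (f 3) + c 4 * pk (f 4)
      + c 5 * pk (f 5) + c 6 * pk (f 6)
    = pk (fun j => c 0 * f 0 j + c 1 * f 1 j + c 2 * f 2 j + c 3 * f 3 j + c 4 * f 4 j
      + c 5 * f 5 j + c 6 * f 6 j) := by
  unfold pk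
  ring

/-- well-formed: all 49 digits are `< 11` -/
def WF (a : ℕ) : Prop := ∀ t < 49, D a t < 11

instance (a : ℕ) : Decidable (WF a) := by unfold WF; infer_instance

theorem D_mul (a b : ℕ) (ha : WF a) (hb : WF b) (i j : ℕ) (hi : i < 7) (hj : j < 7) :
    D (mul a b) (7 * i + j) =
      (D a (7 * i + 0) * D b (7 * 0 + j) + D a (7 * i + 1) * D b (7 * 1 + j)
        + D a (7 * i + 2) * D b (7 * 2 + j) + D a (7 * i + 3) * D b (7 * 3 + j)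
        + D a (7 * i + 4) * D b (7 * 4 + j) + D a (7 * i + 5) * D b (7 * 5 + j)
        + D a (7 * i + 6) * D b (7 * 6 + j)) % 11 := by
  have hred : ∀ x, red x < 1024 ^ 7 := fun x =>
    pk_lt _ (fun j _ => lt_of_lt_of_le (Nat.mod_lt _ (by norm_num)) (by norm_num))
  rw [← D_R _ _ _ hj]
  unfold mul
  rw [R_pkR _ (fun i _ => hred _) i hi]
  unfold red
  rw [D_pk _ (fun j _ => lt_of_lt_of_le (Nat.mod_lt _ (by norm_num)) (by norm_num)) j hj]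
  congr 1
  unfold lin
  beta_reduce
  have e : ∀ k, R b k = pk (fun j => D (R b k) j) := fun k => (pk_D _ (R_lt _ _)).symm
  rw [e 0, e 1, e 2, e 3, e 4, e 5, e 6]
  rw [pk_lin (fun k => D (R a i) k) (fun k j => D (R b k) j)]
  have hA : ∀ k < 7, D (R a i) k ≤ 10 := by
    intro k hk
    rw [D_R _ _ _ hk]
    have := ha (7 * i + k) (by omega)
    omega
  have hB : ∀ k < 7, ∀ j < 7, D (R b k) j ≤ 10 := by
    intro k hk j hj
    rw [D_R _ _ _ hj]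
    have := hb (7 * k + j) (by omega)
    omega
  rw [D_pk _ _ j hj]
  · simp only [D_R _ _ _ hj, D_R a i 0 (by norm_num), D_R a i 1 (by norm_num),
      D_R a i 2 (by norm_num), D_R a i 3 (by norm_num), D_R a i 4 (by norm_num),
      D_R a i 5 (by norm_num), D_R a i 6 (by norm_num)]
  · intro j hj
    have m : ∀ k < 7, D (R a i) k * D (R b k) j ≤ 100 := fun k hk =>
      Nat.mul_le_mul (hA k hk) (hB k hk j hj)
    have m0 := m 0 (by norm_num)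
    have m1 := m 1 (by norm_num)
    have m2 := m 2 (by norm_num)
    have m3 := m 3 (by norm_num)
    have m4 := m 4 (by norm_num)
    have m5 := m 5 (by norm_num)
    have m6 := m 6 (by norm_num)
    show _ < 1024
    omega

theorem WF_mul (a b : ℕ) (ha : WF a) (hb : WF b) : WF (mul a b) := by
  intro t ht
  have : t = 7 * (t / 7) + t % 7 := by omega
  rw [this, D_mul a b ha hb (t / 7) (t % 7) (by omega) (by omega)]
  exact Nat.mod_lt _ (by norm_num)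

/-- the matrix coded by a packed number -/
def toM (a : ℕ) : Matrix (Fin 7) (Fin 7) (ZMod 11) :=
  Matrix.of fun i j => ((D a (7 * (i : ℕ) + (j : ℕ)) : ℕ) : ZMod 11)

theorem toM_mul (a b : ℕ) (ha : WF a) (hb : WF b) : toM (mul a b) = toM a * toM b := by
  ext i j
  simp only [toM, Matrix.of_apply, Matrix.mul_apply, Fin.sum_univ_seven]
  rw [D_mul a b ha hb i j i.2 j.2, ZMod.natCast_mod]
  push_cast
  rfl

end Cfsg.Agent.Lib.Helper21.J1
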