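import Cfsg.Agent.Lib.Helper21.J1Spectrum

/-!
The explicit Janko group `J₁ ≤ GL₇(11)` has order 175560.
-/

set_option autoImplicit false

namespace Cfsg.Agent.Lib.Helper21.J1

open scoped MatrixGroups
open Cfsg.Spor

/-- packed product of a word (`true` is `X`, `false` is `Y`) -/
def wordP : List Bool → ℕ
  | [] => Onep
  | b :: l => mul (if b then Xp else Yp) (wordP l)

/-- the word in `GL₇(11)` -/
def wordG : List Bool → GL (Fin 7) (ZMod 11)
  | [] => 1
  | b :: l => (if b then jankoX else jankoY) * wordG l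

theorem word_rep (l : List Bool) : Rep (wordP l) (wordG l : Mat) := by
  induction l with
  | nil => exact rep_one
  | cons b l ih =>
    cases b
    · exact repY.mul ih
    · exact repX.mul ih

theorem word_mem (l : List Bool) : wordG l ∈ J1 := by
  induction l with
  | nil => exact one_mem _
  | cons b l ih =>
    cases b
    · exact mul_mem Y_mem ih
    · exact mul_mem X_mem ih

def l1 : List Bool := [false, false, false, false, true, false, true]
def l2 : List Bool := [true, false, false, false, false, true, false]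
def l3 : List Bool := [false, false, false, false, true, true, false, true, true]

def code (x : Fin 2 × Fin 2 × Fin 2) : ℕ :=
  mul (pw (wordP l1) x.1) (mul (pw (wordP l2) x.2.1) (pw (wordP l3) x.2.2))

theorem inv_rel : sq (wordP l1) = Onep ∧ sq (wordP l2) = Onep ∧ sq (wordP l3) = Onep ∧
    mul (wordP l1) (wordP l2) = mul (wordP l2) (wordP l1) ∧
    mul (wordP l1) (wordP l3) = mul (wordP l3) (wordP l1) ∧
    mul (wordP l2) (wordP l3) = mul (wordP l3) (wordP l2) := by decide +kernel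

theorem code_inj : ∀ x y : Fin 2 × Fin 2 × Fin 2, toM (code x) = toM (code y) → x = y := by
  decide +kernel

theorem gl_ext {g h : GL (Fin 7) (ZMod 11)} {a : ℕ} (hg : Rep a (g : Mat)) (hh : Rep a (h : Mat)) :
    g = h := Units.ext (hg.unique hh)

theorem t_sq (l : List Bool) (h : sq (wordP l) = Onep) : wordG l ^ 2 = 1 :=
  pow_eq_one_of_rep ((word_rep l).sq.eq_one h)

theorem t_comm (l l' : List Bool) (h : mul (wordP l) (wordP l') = mul (wordP l') (wordP l)) :
    wordG l * wordG l' = wordG l' * wordG l := by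
  have h1 : Rep (mul (wordP l) (wordP l')) ((wordG l * wordG l' : GL (Fin 7) (ZMod 11)) : Mat) :=
    (word_rep l).mul (word_rep l')
  have h2 : Rep (mul (wordP l') (wordP l)) ((wordG l' * wordG l : GL (Fin 7) (ZMod 11)) : Mat) :=
    (word_rep l').mul (word_rep l)
  rw [h] at h1
  exact gl_ext h1 h2

/-- an elementary abelian subgroup of order 8 -/
def E8 : Subgroup (GL (Fin 7) (ZMod 11)) := Subgroup.closure {wordG l1, wordG l2, wordG l3}

theorem E8_le : E8 ≤ J1 := by
  unfold E8
  rw [Subgroup.closure_le]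
  rintro x (rfl | rfl | rfl)
  · exact word_mem _
  · exact word_mem _
  · exact word_mem _

theorem E8_comm : ∀ x ∈ ({wordG l1, wordG l2, wordG l3} : Set (GL (Fin 7) (ZMod 11))),
    ∀ y ∈ ({wordG l1, wordG l2, wordG l3} : Set (GL (Fin 7) (ZMod 11))), x * y = y * x := by
  have c12 := t_comm l1 l2 inv_rel.2.2.2.1
  have c13 := t_comm l1 l3 inv_rel.2.2.2.2.1
  have c23 := t_comm l2 l3 inv_rel.2.2.2.2.2
  rintro x (rfl | rfl | rfl) y (rfl | rfl | rfl)
  · rfl
  · exact c12
  · exact c13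
  · exact c12.symm
  · rfl
  · exact c23
  · exact c13.symm
  · exact c23.symm
  · rfl

theorem E8_sq : ∀ g ∈ E8, g ^ 2 = 1 := by
  have hc : ∀ x ∈ E8, ∀ y ∈ E8, x * y = y * x := by
    intro x hx y hy
    have hcm := Subgroup.isMulCommutative_closure E8_comm
    have := hcm.is_comm.comm (⟨x, hx⟩ : Subgroup.closure {wordG l1, wordG l2, wordG l3}) ⟨y, hy⟩
    exact congrArg Subtype.val this
  intro g hg
  induction hg using Subgroup.closure_induction with
  | mem x hx =>
    rcases hx with rfl | rfl | rfl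
    · exact t_sq _ inv_rel.1
    · exact t_sq _ inv_rel.2.1
    · exact t_sq _ inv_rel.2.2.1
  | one => simp
  | mul x y hx hy ihx ihy =>
    have : Commute x y := hc x hx y hy
    rw [this.mul_pow, ihx, ihy, one_mul]
  | inv x hx ih => rw [inv_pow, ih, inv_one]

theorem eight_dvd_E8 : 8 ∣ Nat.card E8 := by
  have hp : IsPGroup 2 E8 := fun g => ⟨1, by
    have := E8_sq g g.2
    ext1
    simpa using this⟩
  have : Fact (Nat.Prime 2) := ⟨by norm_num⟩
  obtain ⟨n, hn⟩ := IsPGroup.iff_card.1 hp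
  have m1 : wordG l1 ∈ E8 := Subgroup.subset_closure (by simp)
  have m2 : wordG l2 ∈ E8 := Subgroup.subset_closure (by simp)
  have m3 : wordG l3 ∈ E8 := Subgroup.subset_closure (by simp)
  let ψ : Fin 2 × Fin 2 × Fin 2 → E8 := fun x =>
    ⟨wordG l1 ^ (x.1 : ℕ) * (wordG l2 ^ (x.2.1 : ℕ) * wordG l3 ^ (x.2.2 : ℕ)),
      mul_mem (pow_mem m1 _) (mul_mem (pow_mem m2 _) (pow_mem m3 _))⟩
  have hψ : Function.Injective ψ := by
    intro x y h
    apply code_inj
    have hx : ∀ z : Fin 2 × Fin 2 × Fin 2, Rep (code z) ((ψ z : GL (Fin 7) (ZMod 11)) : Mat) := by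
      intro z
      have := ((word_rep l1).pw z.1).mul (((word_rep l2).pw z.2.1).mul ((word_rep l3).pw z.2.2))
      simpa [ψ, code] using this
    rw [(hx x).2, (hx y).2, h]
  have h8 := Nat.card_le_card_of_injective ψ hψ
  have e8 : Nat.card (Fin 2 × Fin 2 × Fin 2) = 8 := by simp [Nat.card_eq_fintype_card]
  rw [e8, hn] at h8
  rw [hn]
  have : 3 ≤ n := by
    by_contra hlt
    have : n ≤ 2 := by omega
    have := Nat.pow_le_pow_right (show 0 < 2 by norm_num) this
    omega
  exact pow_dvd_pow 2 this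

theorem card_le : Nat.card J1 ≤ 175560 := by
  have h : ∀ g : J1, ∃ t : Fin 1540 × Fin 19 × Fin 6,
      toM (getU t.1) * (Am ^ (t.2.1 : ℕ) * Bm ^ (t.2.2 : ℕ)) = ((g : GL (Fin 7) (ZMod 11)) : Mat) := by
    intro g
    obtain ⟨i, hi, e, f, hh⟩ := mem_T g g.2
    refine ⟨(⟨i, hi⟩, ⟨e % 19, Nat.mod_lt _ (by norm_num)⟩, ⟨f % 6, Nat.mod_lt _ (by norm_num)⟩), ?_⟩
    rw [hh]
    simp only
    rw [← pow_eq_pow_mod e A19, ← pow_eq_pow_mod f B6]
  choose c hc using h
  have hinj : Function.Injective c := by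
    intro g g' hg
    have := hc g
    rw [hg, hc g'] at this
    exact Subtype.ext (Units.ext this.symm)
  have := Nat.card_le_card_of_injective c hinj
  simpa [Nat.card_eq_fintype_card] using this

theorem card_arith (c : ℕ) (hpos : 0 < c) (hle : c ≤ 175560) (d8 : 8 ∣ c) (d15 : 15 ∣ c) (d7 : 7 ∣ c)
    (d11 : 11 ∣ c) (d19 : 19 ∣ c) : c = 175560 := by
  have a1 : 8 * 15 ∣ c := Nat.Coprime.mul_dvd_of_dvd_of_dvd (by norm_num) d8 d15
  have a2 : 8 * 15 * 7 ∣ c := Nat.Coprime.mul_dvd_of_dvd_of_dvd (by norm_num) a1 d7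
  have a3 : 8 * 15 * 7 * 11 ∣ c := Nat.Coprime.mul_dvd_of_dvd_of_dvd (by norm_num) a2 d11
  have a4 : 8 * 15 * 7 * 11 * 19 ∣ c := Nat.Coprime.mul_dvd_of_dvd_of_dvd (by norm_num) a3 d19
  exact le_antisymm hle (Nat.le_of_dvd hpos a4)

theorem card_J1 : Nat.card J1 = 175560 := by
  have d8 : 8 ∣ Nat.card J1 := eight_dvd_E8.trans (Subgroup.card_dvd_of_le E8_le)
  have ho : ∀ n, (∃ g ∈ J1, orderOf g = n) → n ∣ Nat.card J1 := by
    rintro n ⟨g, hg, rfl⟩
    have := orderOf_dvd_natCard (⟨g, hg⟩ : J1)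
    rwa [← Subgroup.orderOf_coe] at this
  exact card_arith _ Nat.card_pos card_le d8 (ho _ exists_order15) (ho _ exists_order7)
    (ho _ exists_order11) (ho _ exists_order19)
end Cfsg.Agent.Lib.Helper21.J1
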