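import Cfsg.Agent.Lib.Helper21.J1Order

/-!
The explicit Janko group `J₁ ≤ GL₇(11)` is simple.
-/

set_option autoImplicit false

namespace Cfsg.Agent.Lib.Helper21.J1

open scoped MatrixGroups
open Cfsg.Spor

theorem card_modEq_centralizer {G : Type*} [Group G] [Finite G] (N : Subgroup G) [hN : N.Normal]
    (g : G) (q : ℕ) [Fact q.Prime] (hg : g ^ q = 1) :
    Nat.card N ≡ Nat.card (N ⊓ Subgroup.centralizer {g} : Subgroup G) [MOD q] := by
  classical
  have := Fintype.ofFinite N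
  let f : Function.End N := fun n => ⟨g * n * g⁻¹, hN.conj_mem n n.2 g⟩
  have hpow : ∀ k : ℕ, ∀ n : N, ((f ^ k) n : G) = g ^ k * n * (g ^ k)⁻¹ := by
    intro k
    induction k with
    | zero =>
      intro n
      rw [pow_zero, pow_zero]
      show (n : G) = 1 * n * 1⁻¹
      simp
    | succ k ih =>
      intro n
      rw [pow_succ']
      show g * ((f ^ k) n : G) * g⁻¹ = _
      rw [ih, pow_succ']
      simp only [mul_inv_rev, mul_assoc]
  have hf : f ^ q ^ 1 = 1 := by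
    funext n
    apply Subtype.ext
    rw [pow_one, hpow, hg]
    show 1 * (n : G) * 1⁻¹ = (n : G)
    simp
  have h := Equiv.Perm.card_fixedPoints_modEq hf
  rw [← Nat.card_eq_fintype_card, ← Nat.card_eq_fintype_card] at h
  have e : Nat.card (Function.fixedPoints f) =
      Nat.card (N ⊓ Subgroup.centralizer {g} : Subgroup G) := by
    refine Nat.card_congr
      { toFun := fun n => ⟨(n.1 : G), n.1.2, ?_⟩
        invFun := fun n => ⟨⟨n.1, n.2.1⟩, ?_⟩
        left_inv := fun n => rfl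
        right_inv := fun n => rfl }
    · show (n.1 : G) ∈ Subgroup.centralizer {g}
      rw [Subgroup.mem_centralizer_singleton_iff]
      have := congrArg Subtype.val n.2
      change g * (n.1 : G) * g⁻¹ = n.1 at this
      calc (n.1 : G) * g = (g * (n.1 : G) * g⁻¹) * g := by rw [this]
        _ = g * n.1 := by group
    · have := Subgroup.mem_centralizer_singleton_iff.1 n.2.2
      show f ⟨n.1, n.2.1⟩ = ⟨n.1, n.2.1⟩
      apply Subtype.ext
      show g * (n.1 : G) * g⁻¹ = n.1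
      rw [← this, mul_inv_cancel_right]
  rwa [e] at h

abbrev JG := ↥J1

def x0 : JG := ⟨jankoX, X_mem⟩
def y0 : JG := ⟨jankoY, Y_mem⟩

theorem spec (g : JG) : orderOf g ∈ ({1, 2, 3, 5, 6, 7, 10, 11, 15, 19} : Finset ℕ) := by
  have : orderOf g ∈ Set.range (orderOf : JG → ℕ) := ⟨g, rfl⟩
  rw [J1_spectrum] at this
  exact this

theorem eq_top_of_mem (N : Subgroup JG) (hx : x0 ∈ N) (hy : y0 ∈ N) : N = ⊤ := by
  rw [eq_top_iff]
  have h : Subgroup.closure (((↑) : JG → GL (Fin 7) (ZMod 11)) ⁻¹' {jankoX, jankoY}) = ⊤ :=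
    Subgroup.closure_closure_coe_preimage (k := ({jankoX, jankoY} : Set (GL (Fin 7) (ZMod 11))))
  intro g _
  have hg : g ∈ Subgroup.closure (((↑) : JG → GL (Fin 7) (ZMod 11)) ⁻¹' {jankoX, jankoY}) := by
    rw [h]; trivial
  refine (Subgroup.closure_le N).2 ?_ hg
  rintro z (hz | hz)
  · have : z = x0 := Subtype.ext hz
    rw [this]; exact hx
  · have : z = y0 := Subtype.ext hz
    rw [this]; exact hy

theorem x0_pow : x0 ^ 7 = 1 := Subtype.ext (pow_eq_one_of_rep X7)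
theorem y0_pow : y0 ^ 5 = 1 := Subtype.ext (pow_eq_one_of_rep Y5)
theorem w11_pow : (y0 * (y0 * x0)) ^ 11 = 1 := by
  apply Subtype.ext
  have hr : Rep w11p ((jankoY * (jankoY * jankoX) : GL (Fin 7) (ZMod 11)) : Mat) :=
    repY.mul (repY.mul repX)
  exact pow_eq_one_of_rep (hr.p11.eq_one word_pow.2.2.1)

theorem eq_one_of_pow {Q : Type*} [Group Q] (z : Q) (a b : ℕ) (ha : z ^ a = 1) (hb : z ^ b = 1)
    (hab : Nat.Coprime a b) : z = 1 := by
  have h1 := orderOf_dvd_of_pow_eq_one ha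
  have h2 := orderOf_dvd_of_pow_eq_one hb
  have := Nat.dvd_gcd h1 h2
  rw [hab.gcd_eq_one, Nat.dvd_one] at this
  exact orderOf_eq_one_iff.1 this

theorem top_of_x (N : Subgroup JG) [N.Normal] (hx : x0 ∈ N) : N = ⊤ := by
  refine eq_top_of_mem N hx ?_
  rw [← QuotientGroup.eq_one_iff]
  have h1 : ((x0 : JG) : JG ⧸ N) = 1 := (QuotientGroup.eq_one_iff _).2 hx
  have h5 : ((y0 : JG) : JG ⧸ N) ^ 5 = 1 := by
    rw [← QuotientGroup.mk_pow, y0_pow]; rfl
  have h11 : (((y0 : JG) : JG ⧸ N) * (((y0 : JG) : JG ⧸ N) * ((x0 : JG) : JG ⧸ N))) ^ 11 = 1 := by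
    rw [← QuotientGroup.mk_mul, ← QuotientGroup.mk_mul, ← QuotientGroup.mk_pow, w11_pow]; rfl
  rw [h1, mul_one, ← pow_two, ← pow_mul] at h11
  exact eq_one_of_pow _ 5 22 h5 h11 (by norm_num)

theorem top_of_y (N : Subgroup JG) [N.Normal] (hy : y0 ∈ N) : N = ⊤ := by
  refine eq_top_of_mem N ?_ hy
  rw [← QuotientGroup.eq_one_iff]
  have h1 : ((y0 : JG) : JG ⧸ N) = 1 := (QuotientGroup.eq_one_iff _).2 hy
  have h7 : ((x0 : JG) : JG ⧸ N) ^ 7 = 1 := by
    rw [← QuotientGroup.mk_pow, x0_pow]; rfl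
  have h11 : (((y0 : JG) : JG ⧸ N) * (((y0 : JG) : JG ⧸ N) * ((x0 : JG) : JG ⧸ N))) ^ 11 = 1 := by
    rw [← QuotientGroup.mk_mul, ← QuotientGroup.mk_mul, ← QuotientGroup.mk_pow, w11_pow]; rfl
  rw [h1, one_mul, one_mul] at h11
  exact eq_one_of_pow _ 7 11 h7 h11 (by norm_num)

theorem mem_of_dvd (N : Subgroup JG) [N.Normal] (z : JG) (q : ℕ) (hq : q.Prime) (hz : z ^ q = 1)
    (hd : q ∣ Nat.card N) (hq2 : ¬ q * q ∣ 175560) : z ∈ N := by
  rw [← QuotientGroup.eq_one_iff]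
  have h1 : ((z : JG) : JG ⧸ N) ^ q = 1 := by
    rw [← QuotientGroup.mk_pow, hz]; rfl
  have h2 : ((z : JG) : JG ⧸ N) ^ N.index = 1 := by
    rw [Subgroup.index_eq_card]; exact pow_card_eq_one'
  refine eq_one_of_pow _ _ _ h1 h2 ?_
  rw [Nat.Prime.coprime_iff_not_dvd hq]
  intro hi
  apply hq2
  have := N.card_mul_index
  rw [card_J1] at this
  rw [← this]
  exact Nat.mul_dvd_mul hd hi

theorem commute_order (g u : JG) (h : Commute g u) (hc : Nat.Coprime (orderOf g) (orderOf u)) :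
    orderOf g * orderOf u ∈ ({1, 2, 3, 5, 6, 7, 10, 11, 15, 19} : Finset ℕ) := by
  rw [← h.orderOf_mul_eq_mul_orderOf_of_coprime hc]
  exact spec _

theorem mod_one (N : Subgroup JG) [N.Normal] (g : JG) (q : ℕ) (hq : q.Prime) (hg : orderOf g = q)
    (hq7 : q = 7 ∨ q = 11 ∨ q = 19) (hd : ¬ q ∣ Nat.card N) : Nat.card N % q = 1 := by
  have : Fact q.Prime := ⟨hq⟩
  have h := card_modEq_centralizer N g q (by rw [← hg]; exact pow_orderOf_eq_one g)
  have hb : (N ⊓ Subgroup.centralizer {g} : Subgroup JG) = ⊥ := by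
    rw [eq_bot_iff]
    rintro u ⟨hu, hc⟩
    have hcm : Commute g u := (Subgroup.mem_centralizer_singleton_iff.1 hc).symm
    have hou : orderOf u ∣ Nat.card N := by
      have := orderOf_dvd_natCard (⟨u, hu⟩ : N)
      rwa [← Subgroup.orderOf_coe] at this
    have hcop : Nat.Coprime (orderOf g) (orderOf u) := by
      rw [hg, Nat.Prime.coprime_iff_not_dvd hq]
      exact fun h' => hd (h'.trans hou)
    have hm := commute_order g u hcm hcop
    rw [hg] at hm
    have h1 : orderOf u = 1 := by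
      simp only [Finset.mem_insert, Finset.mem_singleton] at hm
      rcases hq7 with rfl | rfl | rfl <;> omega
    exact orderOf_eq_one_iff.1 h1
  rw [hb] at h
  have h1 : Nat.card (⊥ : Subgroup JG) = 1 := Subgroup.card_bot
  rw [h1] at h
  unfold Nat.ModEq at h
  rw [h]
  exact Nat.mod_eq_of_lt hq.one_lt

theorem arith1 : ∀ k < 717, ¬ ((7 * k + 1) ∣ 5016 ∧ (7 * k + 1) ≠ 1 ∧
    (11 ∣ (7 * k + 1) ∨ (7 * k + 1) % 11 = 1) ∧ (19 ∣ (7 * k + 1) ∨ (7 * k + 1) % 19 = 1) ∧ (7 * k + 1) ≠ 1254) := by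
  decide +kernel
theorem arith2 : ∀ c < 1255, c ∣ 1254 → ¬ 11 ∣ c → ¬ 19 ∣ c → 1254 % 5 ≠ c % 5 := by
  decide +kernel
theorem arith (d c : ℕ) (hd : d ∣ 175560) (h1 : d ≠ 1) (h7 : ¬ 7 ∣ d) (h5 : ¬ 5 ∣ d) (m7 : d % 7 = 1)
    (m11 : 11 ∣ d ∨ d % 11 = 1) (m19 : 19 ∣ d ∨ d % 19 = 1) (hc : c ∣ d) (c11 : ¬ 11 ∣ c)
    (c19 : ¬ 19 ∣ c) : d % 5 ≠ c % 5 := by
  have hd' : d ∣ 5016 := by
    have e : 175560 = 35 * 5016 := by norm_num
    rw [e] at hd
    refine Nat.Coprime.dvd_of_dvd_mul_left ?_ hd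
    have e2 : 35 = 5 * 7 := by norm_num
    rw [e2]
    refine Nat.Coprime.mul_right ?_ ?_
    · exact ((Nat.Prime.coprime_iff_not_dvd (by norm_num)).2 h5).symm
    · exact ((Nat.Prime.coprime_iff_not_dvd (by norm_num)).2 h7).symm
  have hle : d ≤ 5016 := Nat.le_of_dvd (by norm_num) hd'
  have ek : d = 7 * (d / 7) + 1 := by omega
  have hk : d / 7 < 717 := by omega
  have := arith1 (d / 7) hk
  rw [← ek] at this
  have hd2 : d = 1254 := by
    by_contra hne
    exact this ⟨hd', h1, m11, m19, hne⟩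
  subst hd2
  exact arith2 c (by have := Nat.le_of_dvd (by norm_num) hc; omega) hc c11 c19

theorem J1_simple : IsSimpleGroup JG := by
  have hnt : Nontrivial JG := by
    rw [← Finite.one_lt_card_iff_nontrivial, card_J1]
    norm_num
  refine { toNontrivial := hnt, eq_bot_or_eq_top_of_normal := ?_ }
  intro N hN
  by_contra hcon
  push Not at hcon
  obtain ⟨hbot, htop⟩ := hcon
  have hdvd : Nat.card N ∣ 175560 := by
    rw [← card_J1]; exact N.card_subgroup_dvd_card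
  have hne1 : Nat.card N ≠ 1 := fun h => hbot (Subgroup.card_eq_one.1 h)
  have h7 : ¬ 7 ∣ Nat.card N := fun h =>
    htop (top_of_x N (mem_of_dvd N x0 7 (by norm_num) x0_pow h (by norm_num)))
  have h5 : ¬ 5 ∣ Nat.card N := fun h =>
    htop (top_of_y N (mem_of_dvd N y0 5 (by norm_num) y0_pow h (by norm_num)))
  obtain ⟨g7, -, hg7⟩ := exists_order_of_dvd (n := 7) (d := 7) (by norm_num) exists_order7 dvd_rfl |>.imp
    fun g hg => (⟨trivial, hg⟩ : True ∧ orderOf g = 7)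
  obtain ⟨g11, hg11⟩ := exists_order_of_dvd (n := 11) (d := 11) (by norm_num) exists_order11 dvd_rfl
  obtain ⟨g19, hg19⟩ := exists_order_of_dvd (n := 19) (d := 19) (by norm_num) exists_order19 dvd_rfl
  have m7 := mod_one N g7 7 (by norm_num) hg7 (Or.inl rfl) h7
  have m11 : 11 ∣ Nat.card N ∨ Nat.card N % 11 = 1 := by
    by_cases h : 11 ∣ Nat.card N
    · exact Or.inl h
    · exact Or.inr (mod_one N g11 11 (by norm_num) hg11 (Or.inr (Or.inl rfl)) h)
  have m19 : 19 ∣ Nat.card N ∨ Nat.card N % 19 = 1 := by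
    by_cases h : 19 ∣ Nat.card N
    · exact Or.inl h
    · exact Or.inr (mod_one N g19 19 (by norm_num) hg19 (Or.inr (Or.inr rfl)) h)
  -- the centralizer of `y0` in `N`
  have : Fact (Nat.Prime 5) := ⟨by norm_num⟩
  have hy5 : orderOf y0 = 5 := by
    refine orderOf_eq_prime y0_pow ?_
    intro h
    exact htop (top_of_y N (h ▸ one_mem N))
  have hc := card_modEq_centralizer N y0 5 y0_pow
  set C : Subgroup JG := N ⊓ Subgroup.centralizer {y0} with hC
  have hCd : Nat.card C ∣ Nat.card N := Subgroup.card_dvd_of_le inf_le_left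
  have hno : ∀ r : ℕ, r.Prime → r = 11 ∨ r = 19 → ¬ r ∣ Nat.card C := by
    intro r hr hr' hd
    have : Fact r.Prime := ⟨hr⟩
    obtain ⟨u, hu⟩ := exists_prime_orderOf_dvd_card' r hd
    have hu' : orderOf (u : JG) = r := by rw [Subgroup.orderOf_coe]; exact hu
    have hcm : Commute y0 (u : JG) := (Subgroup.mem_centralizer_singleton_iff.1 u.2.2).symm
    have hcop : Nat.Coprime (orderOf y0) (orderOf (u : JG)) := by
      rw [hy5, hu']
      rcases hr' with rfl | rfl <;> norm_num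
    have hm := commute_order y0 u hcm hcop
    rw [hy5, hu'] at hm
    simp only [Finset.mem_insert, Finset.mem_singleton] at hm
    rcases hr' with rfl | rfl <;> omega
  exact arith (Nat.card N) (Nat.card C) hdvd hne1 h7 h5 m7 m11 m19 hCd
    (hno 11 (by norm_num) (Or.inl rfl)) (hno 19 (by norm_num) (Or.inr rfl)) hc

end Cfsg.Agent.Lib.Helper21.J1
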