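import Cfsg.Agent.Lib.Helper21.J1CheckU1
import Cfsg.Agent.Lib.Helper21.J1CheckU2
import Cfsg.Agent.Lib.Helper21.J1CheckO1
import Cfsg.Agent.Lib.Helper21.J1CheckO2
import Cfsg.Prelude.Def_Spor_J1

/-!
Every element of the explicit Janko group `J₁ ≤ GL₇(11)` satisfies `g ^ n = 1` for some
`n ∈ {6, 7, 10, 11, 15, 19}`.
-/

set_option autoImplicit false

namespace Cfsg.Agent.Lib.Helper21.J1

abbrev Mat := Matrix (Fin 7) (Fin 7) (ZMod 11)

def Rep (a : ℕ) (M : Mat) : Prop := WF a ∧ toM a = M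

theorem Rep.mul {a b : ℕ} {M N : Mat} (ha : Rep a M) (hb : Rep b N) : Rep (mul a b) (M * N) :=
  ⟨WF_mul a b ha.1 hb.1, by rw [toM_mul a b ha.1 hb.1, ha.2, hb.2]⟩

theorem toM_one : toM Onep = 1 := by decide +kernel
theorem toM_X : toM Xp = Cfsg.jankoMatrixX := by decide +kernel
theorem toM_Y : toM Yp = Cfsg.jankoMatrixY := by decide +kernel

theorem rep_one : Rep Onep 1 := ⟨wf_basic.2.2.1, toM_one⟩

theorem Rep.sq {a : ℕ} {M : Mat} (h : Rep a M) : Rep (sq a) (M ^ 2) := by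
  have := h.mul h
  rwa [← pow_two] at this

theorem Rep.p5 {a : ℕ} {M : Mat} (h : Rep a M) : Rep (p5 a) (M ^ 5) := by
  have := (h.sq.sq).mul h
  rwa [← pow_mul, ← pow_succ] at this

theorem Rep.p6 {a : ℕ} {M : Mat} (h : Rep a M) : Rep (p6 a) (M ^ 6) := by
  have := ((h.sq).mul h).sq
  rwa [← pow_succ, ← pow_mul] at this

theorem Rep.p7 {a : ℕ} {M : Mat} (h : Rep a M) : Rep (p7 a) (M ^ 7) := by
  have := h.p6.mul h
  rwa [← pow_succ] at this

theorem Rep.p10 {a : ℕ} {M : Mat} (h : Rep a M) : Rep (p10 a) (M ^ 10) := by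
  have := h.p5.sq
  rwa [← pow_mul] at this

theorem Rep.p11 {a : ℕ} {M : Mat} (h : Rep a M) : Rep (p11 a) (M ^ 11) := by
  have := h.p10.mul h
  rwa [← pow_succ] at this

theorem Rep.p15 {a : ℕ} {M : Mat} (h : Rep a M) : Rep (p15 a) (M ^ 15) := by
  have := (h.p5.sq).mul h.p5
  rwa [← pow_mul, ← pow_add] at this

theorem Rep.p19 {a : ℕ} {M : Mat} (h : Rep a M) : Rep (p19 a) (M ^ 19) := by
  have := ((h.sq.sq.sq.sq).mul h.sq).mul h
  rwa [← pow_mul, ← pow_mul, ← pow_mul, ← pow_add, ← pow_succ] at this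

theorem Rep.pw {a : ℕ} {M : Mat} (h : Rep a M) (n : ℕ) : Rep (pw a n) (M ^ n) := by
  induction n with
  | zero => rw [pow_zero]; exact rep_one
  | succ n ih =>
    have := ih.mul h
    rwa [← pow_succ] at this

theorem Rep.eq_one {a : ℕ} {M : Mat} (h : Rep a M) (e : a = Onep) : M = 1 := by
  rw [← h.2, e, toM_one]

theorem Rep.unique {a : ℕ} {M N : Mat} (h : Rep a M) (h' : Rep a N) : M = N := by
  rw [← h.2, h'.2]

theorem D_mod (t s : ℕ) (hs : s < 49) : D (t % 1024 ^ 49) s = D t s := by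
  unfold D
  have h7 : (1024 : ℕ) ^ 49 = 1024 ^ s * 1024 ^ (49 - s) := by
    rw [← pow_add]; congr 1; omega
  rw [h7, Nat.mod_mul_right_div_self, Nat.mod_mod_of_dvd _ (dvd_pow_self _ (by omega))]

theorem toM_mod (t : ℕ) : toM (t % 1024 ^ 49) = toM t := by
  ext i j
  simp only [toM, Matrix.of_apply]
  rw [D_mod _ _ (by have := i.2; have := j.2; omega)]

/-! ### the metacyclic subgroup -/

section mono
variable {α : Type*} [Monoid α] {A B : α}

theorem K_aux1 (h : B * A = A ^ 12 * B) (e : ℕ) : B * A ^ e = A ^ (12 * e) * B := by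
  induction e with
  | zero => simp
  | succ e ih =>
    rw [pow_succ, ← mul_assoc, ih, mul_assoc, h, ← mul_assoc, ← pow_add]
    congr 2

theorem K_aux2 (h : B * A = A ^ 12 * B) (f e : ℕ) : B ^ f * A ^ e = A ^ (12 ^ f * e) * B ^ f := by
  induction f generalizing e with
  | zero => simp
  | succ f ih =>
    rw [pow_succ, mul_assoc, K_aux1 h, ← mul_assoc, ih, mul_assoc]
    congr 2
    ring

theorem K_mul (h : B * A = A ^ 12 * B) (e1 f1 e f : ℕ) :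
    (A ^ e1 * B ^ f1) * (A ^ e * B ^ f) = A ^ (e1 + 12 ^ f1 * e) * B ^ (f1 + f) := by
  rw [mul_assoc, ← mul_assoc (B ^ f1), K_aux2 h, mul_assoc, ← mul_assoc, ← pow_add, ← pow_add]

end mono

def Am : Mat := toM aP
def Bm : Mat := toM bP

theorem rep_a : Rep aP Am := ⟨wf_basic.2.2.2.1, rfl⟩
theorem rep_b : Rep bP Bm := ⟨wf_basic.2.2.2.2, rfl⟩
theorem rep_X : Rep Xp Cfsg.jankoMatrixX := ⟨wf_basic.1, toM_X⟩
theorem rep_Y : Rep Yp Cfsg.jankoMatrixY := ⟨wf_basic.2.1, toM_Y⟩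

theorem A19 : Am ^ 19 = 1 := rep_a.p19.eq_one rel_basic.1
theorem B6 : Bm ^ 6 = 1 := rep_b.p6.eq_one rel_basic.2.1
theorem BA : Bm * Am = Am ^ 12 * Bm := by
  have h1 := rep_b.mul rep_a
  have h2 := (rep_a.pw 12).mul rep_b
  rw [rel_basic.2.2.1] at h1
  exact h1.unique h2
theorem X7 : Cfsg.jankoMatrixX ^ 7 = 1 := rep_X.p7.eq_one rel_basic.2.2.2.1
theorem Y5 : Cfsg.jankoMatrixY ^ 5 = 1 := rep_Y.p5.eq_one rel_basic.2.2.2.2.1

theorem rep_K (j : ℕ) (hj : j < 114) : Rep (getK j) (Am ^ (j / 6) * Bm ^ (j % 6)) := by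
  have h := (kT_ok j hj).2
  rw [h]
  exact (rep_a.pw _).mul (rep_b.pw _)

theorem uT_ok : ∀ i < 1540, EntryOK (getU i) := by
  intro i hi
  have e : i = 220 * (i / 220) + i % 220 := by omega
  have h7 : i / 220 < 7 := by omega
  have hm : i % 220 < 220 := by omega
  rw [e]
  generalize i % 220 = r at *
  generalize i / 220 = c at *
  interval_cases c
  · exact uT_ok0 r hm
  · exact uT_ok1 r hm
  · exact uT_ok2 r hm
  · exact uT_ok3 r hm
  · exact uT_ok4 r hm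
  · exact uT_ok5 r hm
  · exact uT_ok6 r hm

theorem ord_ok : ∀ c < 21, ∀ j < 114, OrdOK (mul (getD c) (getK j)) (hi (getD c) / 8 ^ j % 8) := by
  intro i hi
  have e : i = 3 * (i / 3) + i % 3 := by omega
  have h7 : i / 3 < 7 := by omega
  have hm : i % 3 < 3 := by omega
  rw [e]
  generalize i % 3 = r at *
  generalize i / 3 = c at *
  interval_cases c
  · exact ord_ok0 r hm
  · exact ord_ok1 r hm
  · exact ord_ok2 r hm
  · exact ord_ok3 r hm
  · exact ord_ok4 r hm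
  · exact ord_ok5 r hm
  · exact ord_ok6 r hm

/-- the union of the 1540 cosets -/
def T (M : Mat) : Prop := ∃ i < 1540, ∃ e f : ℕ, M = toM (getU i) * (Am ^ e * Bm ^ f)

theorem T_one : T 1 := by
  refine ⟨0, by norm_num, 0, 0, ?_⟩
  rw [← toM_mod, rel_basic.2.2.2.2.2, toM_one]
  simp

theorem T_step {gp : ℕ} {G : Mat} (hG : Rep gp G)
    (h : ∀ i < 1540, ∃ i1 < 1540, ∃ j1 < 114, mul gp (getU i) = mul (getU i1) (getK j1))
    {M : Mat} (hM : T M) : T (G * M) := by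
  obtain ⟨i, hi, e, f, rfl⟩ := hM
  obtain ⟨i1, hi1, j1, hj1, hh⟩ := h i hi
  have r1 : Rep (getU i) (toM (getU i)) := ⟨(uT_ok i hi).1, rfl⟩
  have r2 : Rep (getU i1) (toM (getU i1)) := ⟨(uT_ok i1 hi1).1, rfl⟩
  have e1 := hG.mul r1
  rw [hh] at e1
  have e2 := e1.unique (r2.mul (rep_K j1 hj1))
  refine ⟨i1, hi1, j1 / 6 + 12 ^ (j1 % 6) * e, j1 % 6 + f, ?_⟩
  rw [← mul_assoc, e2, mul_assoc, K_mul BA]

theorem T_X {M : Mat} (hM : T M) : T (Cfsg.jankoMatrixX * M) :=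
  T_step rep_X (fun i hi => ⟨_, (uT_ok i hi).2.1.1, _, (uT_ok i hi).2.1.2.1, (uT_ok i hi).2.1.2.2⟩) hM

theorem T_Y {M : Mat} (hM : T M) : T (Cfsg.jankoMatrixY * M) :=
  T_step rep_Y (fun i hi => ⟨_, (uT_ok i hi).2.2.1.1, _, (uT_ok i hi).2.2.1.2.1,
    (uT_ok i hi).2.2.1.2.2⟩) hM

theorem T_pow {G : Mat} (h : ∀ {M : Mat}, T M → T (G * M)) (n : ℕ) {M : Mat} (hM : T M) :
    T (G ^ n * M) := by
  induction n with
  | zero => simpa using hM
  | succ n ih => rw [pow_succ', mul_assoc]; exact h ih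

theorem isUnit_K (e f : ℕ) : IsUnit (Am ^ e * Bm ^ f) :=
  ((IsUnit.of_pow_eq_one A19 (by norm_num)).pow e).mul ((IsUnit.of_pow_eq_one B6 (by norm_num)).pow f)

theorem ordOK_spec {x code : ℕ} {M : Mat} (h : Rep x M) (ho : OrdOK x code) :
    M ^ 6 = 1 ∨ M ^ 7 = 1 ∨ M ^ 10 = 1 ∨ M ^ 11 = 1 ∨ M ^ 15 = 1 ∨ M ^ 19 = 1 := by
  rcases ho with ⟨-, e⟩ | ⟨-, e⟩ | ⟨-, e⟩ | ⟨-, e⟩ | ⟨-, e⟩ | ⟨-, e⟩
  · exact Or.inl (h.p6.eq_one e)
  · exact Or.inr (Or.inl (h.p7.eq_one e))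
  · exact Or.inr (Or.inr (Or.inl (h.p10.eq_one e)))
  · exact Or.inr (Or.inr (Or.inr (Or.inl (h.p11.eq_one e))))
  · exact Or.inr (Or.inr (Or.inr (Or.inr (Or.inl (h.p15.eq_one e)))))
  · exact Or.inr (Or.inr (Or.inr (Or.inr (Or.inr (h.p19.eq_one e)))))

theorem conj_pow {k y : Mat} (hk : IsUnit k) (n : ℕ) (h : (y * k) ^ n = 1) : (k * y) ^ n = 1 := by
  have s : SemiconjBy k (y * k) (k * y) := by
    unfold SemiconjBy
    simp only [mul_assoc]
  have s2 := s.pow_right n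
  unfold SemiconjBy at s2
  rw [h, mul_one] at s2
  exact hk.mul_right_cancel (by rw [one_mul]; exact s2.symm)

theorem T_ord {M : Mat} (hM : T M) :
    M ^ 6 = 1 ∨ M ^ 7 = 1 ∨ M ^ 10 = 1 ∨ M ^ 11 = 1 ∨ M ^ 15 = 1 ∨ M ^ 19 = 1 := by
  obtain ⟨i, hi, e, f, rfl⟩ := hM
  obtain ⟨-, -, -, hc1, hc2, hkd⟩ := uT_ok i hi
  set c1 := J1.hi (getU i) / 2 ^ 36 % 128 with hc1d
  set c2 := J1.hi (getU i) / 2 ^ 43 with hc2d
  have rD : Rep (getD c2) (toM (getD c2)) := ⟨dT_ok c2 hc2, rfl⟩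
  have r1 := (rep_K c1 hc1).mul rD
  have eU : toM (getU i) = Am ^ (c1 / 6) * Bm ^ (c1 % 6) * toM (getD c2) := by
    rw [← toM_mod, ← hkd]; exact r1.2
  -- the conjugate element
  have key : toM (getD c2) * (Am ^ e * Bm ^ f) * (Am ^ (c1 / 6) * Bm ^ (c1 % 6)) =
      toM (getD c2) * (Am ^ ((e + 12 ^ f * (c1 / 6)) % 19) * Bm ^ ((f + c1 % 6) % 6)) := by
    rw [mul_assoc, K_mul BA, pow_eq_pow_mod _ A19, pow_eq_pow_mod (f + c1 % 6) B6]
  set e' := (e + 12 ^ f * (c1 / 6)) % 19 with he'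
  set f' := (f + c1 % 6) % 6 with hf'
  have he'l : e' < 19 := Nat.mod_lt _ (by norm_num)
  have hf'l : f' < 6 := Nat.mod_lt _ (by norm_num)
  have hj : 6 * e' + f' < 114 := by omega
  have rK := rep_K (6 * e' + f') hj
  have q1 : (6 * e' + f') / 6 = e' := by omega
  have q2 : (6 * e' + f') % 6 = f' := by omega
  rw [q1, q2] at rK
  have rr := rD.mul rK
  have ho := ordOK_spec rr (ord_ok c2 hc2 _ hj)
  rw [← key] at ho
  rw [eU, mul_assoc (Am ^ (c1 / 6) * Bm ^ (c1 % 6))]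
  have hu := isUnit_K (c1 / 6) (c1 % 6)
  rcases ho with h | h | h | h | h | h
  · exact Or.inl (conj_pow hu _ h)
  · exact Or.inr (Or.inl (conj_pow hu _ h))
  · exact Or.inr (Or.inr (Or.inl (conj_pow hu _ h)))
  · exact Or.inr (Or.inr (Or.inr (Or.inl (conj_pow hu _ h))))
  · exact Or.inr (Or.inr (Or.inr (Or.inr (Or.inl (conj_pow hu _ h)))))
  · exact Or.inr (Or.inr (Or.inr (Or.inr (Or.inr (conj_pow hu _ h)))))

open scoped MatrixGroups

theorem mem_T (g : GL (Fin 7) (ZMod 11)) (hg : g ∈ Cfsg.Spor.J1) : T (g : Mat) := by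
  unfold Cfsg.Spor.J1 at hg
  induction hg using Subgroup.closure_induction_left with
  | one => exact T_one
  | mul_left x hx y _ ih =>
    rcases hx with rfl | rfl
    · exact T_X ih
    · exact T_Y ih
  | inv_mul_cancel x hx y _ ih =>
    rcases hx with rfl | rfl
    · have : (Cfsg.Spor.jankoX⁻¹ : GL (Fin 7) (ZMod 11)) = Cfsg.Spor.jankoX ^ 6 := by
        rw [inv_eq_iff_mul_eq_one, ← pow_succ']
        exact Units.ext X7
      rw [this]
      exact T_pow T_X 6 ih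
    · have : (Cfsg.Spor.jankoY⁻¹ : GL (Fin 7) (ZMod 11)) = Cfsg.Spor.jankoY ^ 4 := by
        rw [inv_eq_iff_mul_eq_one, ← pow_succ']
        exact Units.ext Y5
      rw [this]
      exact T_pow T_Y 4 ih

theorem J1_pow (g : GL (Fin 7) (ZMod 11)) (hg : g ∈ Cfsg.Spor.J1) :
    g ^ 6 = 1 ∨ g ^ 7 = 1 ∨ g ^ 10 = 1 ∨ g ^ 11 = 1 ∨ g ^ 15 = 1 ∨ g ^ 19 = 1 := by
  have h := T_ord (mem_T g hg)
  have c : ∀ n : ℕ, (g : Mat) ^ n = 1 → g ^ n = 1 := fun n hn => Units.ext (by simpa using hn)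
  rcases h with h | h | h | h | h | h
  · exact Or.inl (c _ h)
  · exact Or.inr (Or.inl (c _ h))
  · exact Or.inr (Or.inr (Or.inl (c _ h)))
  · exact Or.inr (Or.inr (Or.inr (Or.inl (c _ h))))
  · exact Or.inr (Or.inr (Or.inr (Or.inr (Or.inl (c _ h)))))
  · exact Or.inr (Or.inr (Or.inr (Or.inr (Or.inr (c _ h)))))

end Cfsg.Agent.Lib.Helper21.J1
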