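import Cfsg.Agent.Lib.Helper21.J1Spec

/-!
The set of element orders of the explicit Janko group `J₁ ≤ GL₇(11)`.
-/

set_option autoImplicit false

namespace Cfsg.Agent.Lib.Helper21.J1

open scoped MatrixGroups
open Cfsg.Spor

def w6p : ℕ := mul Yp (mul Yp (mul Yp Xp))
def w10p : ℕ := mul Yp Xp
def w11p : ℕ := mul Yp (mul Yp Xp)
def w15p : ℕ := mul Yp (mul Yp (mul Xp (mul Yp (mul Xp (mul Yp (mul Yp (mul Xp Xp)))))))
def w19p : ℕ := mul Yp (mul Xp (mul Xp Xp))

theorem word_pow : p6 w6p = Onep ∧ p10 w10p = Onep ∧ p11 w11p = Onep ∧ p15 w15p = Onep ∧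
    p19 w19p = Onep := by decide +kernel

theorem word_ne : toM (pw w6p 2) ≠ 1 ∧ toM (pw w6p 3) ≠ 1 ∧ toM (pw w10p 2) ≠ 1 ∧
    toM (pw w10p 5) ≠ 1 ∧ toM (pw w15p 3) ≠ 1 ∧ toM (pw w15p 5) ≠ 1 ∧ toM (pw w11p 1) ≠ 1 ∧
    toM (pw w19p 1) ≠ 1 ∧ toM (pw Xp 1) ≠ 1 := by decide +kernel

theorem X_mem : jankoX ∈ J1 := Subgroup.subset_closure (by simp)
theorem Y_mem : jankoY ∈ J1 := Subgroup.subset_closure (by simp)

theorem repX : Rep Xp (jankoX : Mat) := rep_X
theorem repY : Rep Yp (jankoY : Mat) := rep_Y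

theorem pow_eq_one_of_rep {g : GL (Fin 7) (ZMod 11)} {n : ℕ} (h : (g : Mat) ^ n = 1) :
    g ^ n = 1 := Units.ext (by simpa using h)

theorem pow_ne_one_of_rep {g : GL (Fin 7) (ZMod 11)} {a n : ℕ} (hr : Rep a (g : Mat))
    (h : toM (pw a n) ≠ 1) : g ^ n ≠ 1 := by
  intro e
  apply h
  rw [(hr.pw n).2, ← Units.val_pow_eq_pow_val, e]
  rfl

theorem exists_order6 : ∃ g ∈ J1, orderOf g = 6 := by
  refine ⟨jankoY * (jankoY * (jankoY * jankoX)),
    mul_mem Y_mem (mul_mem Y_mem (mul_mem Y_mem X_mem)), ?_⟩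
  have hr : Rep w6p ((jankoY * (jankoY * (jankoY * jankoX)) : GL (Fin 7) (ZMod 11)) : Mat) :=
    repY.mul (repY.mul (repY.mul repX))
  refine orderOf_eq_of_pow_and_pow_div_prime (by norm_num)
    (pow_eq_one_of_rep (hr.p6.eq_one word_pow.1)) ?_
  intro p hp hd
  have : p ∈ Nat.primeFactors 6 := Nat.mem_primeFactors.2 ⟨hp, hd, by norm_num⟩
  have e : Nat.primeFactors 6 = {2, 3} := by decide +kernel
  rw [e] at this
  simp only [Finset.mem_insert, Finset.mem_singleton] at this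
  rcases this with rfl | rfl
  · exact pow_ne_one_of_rep hr word_ne.2.1
  · exact pow_ne_one_of_rep hr word_ne.1

theorem exists_order10 : ∃ g ∈ J1, orderOf g = 10 := by
  refine ⟨jankoY * jankoX, mul_mem Y_mem X_mem, ?_⟩
  have hr : Rep w10p ((jankoY * jankoX : GL (Fin 7) (ZMod 11)) : Mat) := repY.mul repX
  refine orderOf_eq_of_pow_and_pow_div_prime (by norm_num)
    (pow_eq_one_of_rep (hr.p10.eq_one word_pow.2.1)) ?_
  intro p hp hd
  have : p ∈ Nat.primeFactors 10 := Nat.mem_primeFactors.2 ⟨hp, hd, by norm_num⟩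
  have e : Nat.primeFactors 10 = {2, 5} := by decide +kernel
  rw [e] at this
  simp only [Finset.mem_insert, Finset.mem_singleton] at this
  rcases this with rfl | rfl
  · exact pow_ne_one_of_rep hr word_ne.2.2.2.1
  · exact pow_ne_one_of_rep hr word_ne.2.2.1

theorem exists_order15 : ∃ g ∈ J1, orderOf g = 15 := by
  refine ⟨jankoY * (jankoY * (jankoX * (jankoY * (jankoX * (jankoY * (jankoY * (jankoX * jankoX))))))),
    mul_mem Y_mem (mul_mem Y_mem (mul_mem X_mem (mul_mem Y_mem (mul_mem X_mem (mul_mem Y_mem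
      (mul_mem Y_mem (mul_mem X_mem X_mem))))))), ?_⟩
  have hr : Rep w15p ((jankoY * (jankoY * (jankoX * (jankoY * (jankoX * (jankoY * (jankoY *
      (jankoX * jankoX))))))) : GL (Fin 7) (ZMod 11)) : Mat) :=
    repY.mul (repY.mul (repX.mul (repY.mul (repX.mul (repY.mul (repY.mul (repX.mul repX)))))))
  refine orderOf_eq_of_pow_and_pow_div_prime (by norm_num)
    (pow_eq_one_of_rep (hr.p15.eq_one word_pow.2.2.2.1)) ?_
  intro p hp hd
  have : p ∈ Nat.primeFactors 15 := Nat.mem_primeFactors.2 ⟨hp, hd, by norm_num⟩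
  have e : Nat.primeFactors 15 = {3, 5} := by decide +kernel
  rw [e] at this
  simp only [Finset.mem_insert, Finset.mem_singleton] at this
  rcases this with rfl | rfl
  · exact pow_ne_one_of_rep hr word_ne.2.2.2.2.2.1
  · exact pow_ne_one_of_rep hr word_ne.2.2.2.2.1

theorem exists_order7 : ∃ g ∈ J1, orderOf g = 7 := by
  refine ⟨jankoX, X_mem, ?_⟩
  have : Fact (Nat.Prime 7) := ⟨by norm_num⟩
  refine orderOf_eq_prime (pow_eq_one_of_rep X7) ?_
  have := pow_ne_one_of_rep repX word_ne.2.2.2.2.2.2.2.2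
  simpa using this

theorem exists_order11 : ∃ g ∈ J1, orderOf g = 11 := by
  refine ⟨jankoY * (jankoY * jankoX), mul_mem Y_mem (mul_mem Y_mem X_mem), ?_⟩
  have hr : Rep w11p ((jankoY * (jankoY * jankoX) : GL (Fin 7) (ZMod 11)) : Mat) :=
    repY.mul (repY.mul repX)
  have : Fact (Nat.Prime 11) := ⟨by norm_num⟩
  refine orderOf_eq_prime (pow_eq_one_of_rep (hr.p11.eq_one word_pow.2.2.1)) ?_
  have := pow_ne_one_of_rep hr word_ne.2.2.2.2.2.2.1
  simpa using this

theorem exists_order19 : ∃ g ∈ J1, orderOf g = 19 := by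
  refine ⟨jankoY * (jankoX * (jankoX * jankoX)), mul_mem Y_mem (mul_mem X_mem (mul_mem X_mem X_mem)), ?_⟩
  have hr : Rep w19p ((jankoY * (jankoX * (jankoX * jankoX)) : GL (Fin 7) (ZMod 11)) : Mat) :=
    repY.mul (repX.mul (repX.mul repX))
  have : Fact (Nat.Prime 19) := ⟨by norm_num⟩
  refine orderOf_eq_prime (pow_eq_one_of_rep (hr.p19.eq_one word_pow.2.2.2.2)) ?_
  have := pow_ne_one_of_rep hr word_ne.2.2.2.2.2.2.2.1
  simpa using this

theorem exists_order_of_dvd {n d : ℕ} (hn : 0 < n) (h : ∃ g ∈ J1, orderOf g = n) (hd : d ∣ n) :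
    ∃ x : ↥J1, orderOf x = d := by
  obtain ⟨g, hg, rfl⟩ := h
  obtain ⟨c, hc⟩ := hd
  have hc0 : c ≠ 0 := by
    rintro rfl
    rw [mul_zero] at hc
    omega
  refine ⟨⟨g, hg⟩ ^ c, ?_⟩
  rw [← Subgroup.orderOf_coe]
  simp only [Subgroup.coe_pow]
  rw [orderOf_pow_of_dvd hc0 ⟨d, by rw [hc, mul_comm]⟩, hc]
  exact Nat.mul_div_cancel _ (Nat.pos_of_ne_zero hc0)

/-- The spectrum of the Janko group `J₁`. -/
theorem J1_spectrum :
    Set.range (orderOf : ↥J1 → ℕ) = (({1, 2, 3, 5, 6, 7, 10, 11, 15, 19} : Finset ℕ) : Set ℕ) := by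
  apply Set.eq_of_subset_of_subset
  · rintro _ ⟨x, rfl⟩
    rw [← Subgroup.orderOf_coe]
    have key : ∀ n : ℕ, 0 < n → n ≤ 19 → (∀ d ∈ Nat.divisors n, d ∈ ({1, 2, 3, 5, 6, 7, 10, 11, 15, 19} : Finset ℕ)) →
        (x : GL (Fin 7) (ZMod 11)) ^ n = 1 →
        orderOf (x : GL (Fin 7) (ZMod 11)) ∈ (({1, 2, 3, 5, 6, 7, 10, 11, 15, 19} : Finset ℕ) : Set ℕ) := by
      intro n hn _ hall hx
      exact hall _ (Nat.mem_divisors.2 ⟨orderOf_dvd_of_pow_eq_one hx, hn.ne'⟩)
    rcases J1_pow x x.2 with h | h | h | h | h | h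
    · exact key 6 (by norm_num) (by norm_num) (by decide +kernel) h
    · exact key 7 (by norm_num) (by norm_num) (by decide +kernel) h
    · exact key 10 (by norm_num) (by norm_num) (by decide +kernel) h
    · exact key 11 (by norm_num) (by norm_num) (by decide +kernel) h
    · exact key 15 (by norm_num) (by norm_num) (by decide +kernel) h
    · exact key 19 (by norm_num) (by norm_num) (by decide +kernel) h
  · intro n hn
    simp only [Finset.coe_insert, Finset.coe_singleton, Set.mem_insert_iff,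
      Set.mem_singleton_iff] at hn
    rcases hn with rfl | rfl | rfl | rfl | rfl | rfl | rfl | rfl | rfl | rfl
    · exact exists_order_of_dvd (by norm_num) exists_order6 (by norm_num)
    · exact exists_order_of_dvd (by norm_num) exists_order6 (by norm_num)
    · exact exists_order_of_dvd (by norm_num) exists_order6 (by norm_num)
    · exact exists_order_of_dvd (by norm_num) exists_order10 (by norm_num)
    · exact exists_order_of_dvd (by norm_num) exists_order6 (by norm_num)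
    · exact exists_order_of_dvd (by norm_num) exists_order7 (by norm_num)
    · exact exists_order_of_dvd (by norm_num) exists_order10 (by norm_num)
    · exact exists_order_of_dvd (by norm_num) exists_order11 (by norm_num)
    · exact exists_order_of_dvd (by norm_num) exists_order15 (by norm_num)
    · exact exists_order_of_dvd (by norm_num) exists_order19 (by norm_num)

end Cfsg.Agent.Lib.Helper21.J1
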