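import Cfsg.Agent.Lib.Helper21.Basic
import Cfsg.Agent.Lib.Helper21.Wielandt
import Cfsg.Agent.Lib.Helper22.Index
import Cfsg.Agent.Lib.Helper1.Hall

set_option autoImplicit false
open Pointwise

namespace Cfsg.Agent.Lib.Helper21

universe u

/-- every `p`-regular element has a centralizer of `p`-power index. -/
def PHyp (p : ℕ) (G : Type*) [Group G] : Prop :=
  ∀ x : G, (orderOf x).Coprime p → ∃ k : ℕ, (Subgroup.centralizer ({x} : Set G)).index = p ^ k

theorem centralizer_subgroupOf {G : Type*} [Group G] (N : Subgroup G) (x : N) :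
    Subgroup.centralizer ({x} : Set N) = (Subgroup.centralizer ({x.1} : Set G)).subgroupOf N := by
  ext y
  rw [Subgroup.mem_subgroupOf, Subgroup.mem_centralizer_singleton_iff,
    Subgroup.mem_centralizer_singleton_iff]
  constructor
  · intro h; exact congrArg Subtype.val h
  · intro h; exact Subtype.ext h

theorem PHyp.normal {p : ℕ} (hp : p.Prime) {G : Type*} [Group G] [Finite G] (h : PHyp p G)
    (N : Subgroup G) [N.Normal] : PHyp p N := by
  intro x hx
  rw [← Subgroup.orderOf_coe] at hx
  obtain ⟨k, hk⟩ := h x.1 hx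
  rw [centralizer_subgroupOf]
  have h1 : (Subgroup.centralizer ({x.1} : Set G)).relIndex N ∣ p ^ k := by
    rw [← hk]
    exact Cfsg.Agent.Lib.Helper22.relIndex_dvd_index_of_normal_right N _
  obtain ⟨j, -, hj⟩ := (Nat.dvd_prime_pow hp).mp h1
  exact ⟨j, hj⟩

/-- `p`-regular elements of a quotient lift to `p`-regular elements. -/
theorem exists_pregular_lift {p : ℕ} [hp : Fact p.Prime] {G : Type*} [Group G] [Finite G]
    (N : Subgroup G) [N.Normal] (x : G ⧸ N) (hx : (orderOf x).Coprime p) :
    ∃ v : G, (v : G ⧸ N) = x ∧ (orderOf v).Coprime p := by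
  obtain ⟨y, rfl⟩ := QuotientGroup.mk_surjective x
  obtain ⟨v, _, u, hu, hyuv, hv, k, huk⟩ := exists_p_decomp p y (isOfFinOrder_of_finite y)
  refine ⟨v, ?_, hv⟩
  have h1 : ((u : G) : G ⧸ N) = 1 := by
    have h2 : orderOf ((u : G) : G ⧸ N) ∣ p ^ k := by
      apply orderOf_dvd_of_pow_eq_one
      rw [← QuotientGroup.mk_pow, huk]; rfl
    have h3 : orderOf ((u : G) : G ⧸ N) ∣ orderOf ((y : G) : G ⧸ N) := by
      apply orderOf_dvd_of_mem_zpowers
      obtain ⟨i, rfl⟩ := hu
      exact ⟨i, (QuotientGroup.mk_zpow N y i).symm⟩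
    have h4 : orderOf ((u : G) : G ⧸ N) ∣ Nat.gcd (orderOf ((y : G) : G ⧸ N)) (p ^ k) :=
      Nat.dvd_gcd h3 h2
    rw [(Nat.Coprime.pow_right k hx).gcd_eq_one, Nat.dvd_one, orderOf_eq_one_iff] at h4
    exact h4
  rw [hyuv, QuotientGroup.mk_mul, h1, one_mul]

theorem PHyp.quotient {p : ℕ} [hp : Fact p.Prime] {G : Type*} [Group G] [Finite G] (h : PHyp p G)
    (N : Subgroup G) [N.Normal] : PHyp p (G ⧸ N) := by
  intro x hx
  obtain ⟨v, rfl, hv⟩ := exists_pregular_lift N x hx
  obtain ⟨k, hk⟩ := h v hv
  have h1 : (Subgroup.centralizer ({v} : Set G)).map (QuotientGroup.mk' N) ≤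
      Subgroup.centralizer ({(v : G ⧸ N)} : Set (G ⧸ N)) := by
    rintro _ ⟨c, hc, rfl⟩
    rw [Subgroup.mem_centralizer_singleton_iff]
    have hc' : c * v = v * c := Subgroup.mem_centralizer_singleton_iff.mp hc
    show ((c : G) : G ⧸ N) * (v : G ⧸ N) = (v : G ⧸ N) * ((c : G) : G ⧸ N)
    rw [← QuotientGroup.mk_mul, hc', QuotientGroup.mk_mul]
  have h2 : (Subgroup.centralizer ({(v : G ⧸ N)} : Set (G ⧸ N))).index ∣ p ^ k := by
    rw [← hk]
    exact (Subgroup.index_dvd_of_le h1).trans
      (Subgroup.index_map_dvd _ (QuotientGroup.mk'_surjective N))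
  obtain ⟨j, -, hj⟩ := (Nat.dvd_prime_pow hp.out).mp h2
  exact ⟨j, hj⟩

/-- normal `p'`-subgroups are centralized by `p`-regular elements. -/
theorem PHyp.le_centralizer {p : ℕ} (hp : p.Prime) {G : Type*} [Group G] [Finite G] (h : PHyp p G)
    (M : Subgroup G) [M.Normal] (hM : (Nat.card M).Coprime p) (y : G) (hy : (orderOf y).Coprime p) :
    M ≤ Subgroup.centralizer ({y} : Set G) := by
  obtain ⟨k, hk⟩ := h y hy
  rw [← Subgroup.relIndex_eq_one]
  have h1 : (Subgroup.centralizer ({y} : Set G)).relIndex M ∣ p ^ k := by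
    rw [← hk]
    exact Cfsg.Agent.Lib.Helper22.relIndex_dvd_index_of_normal_right M _
  have h2 : (Subgroup.centralizer ({y} : Set G)).relIndex M ∣ Nat.card M :=
    Subgroup.relIndex_dvd_card _ _
  have h3 := Nat.dvd_gcd h2 h1
  rwa [(Nat.Coprime.pow_right k hM).gcd_eq_one, Nat.dvd_one] at h3

/-- Step A: solvability (given Burnside's lemma on classes of prime power size). -/
theorem PHyp.solvable_aux {p : ℕ} [hp : Fact p.Prime]
    (hB : ∀ (S : Type u) [Group S] [Finite S] [IsSimpleGroup S] (k : ℕ) (g : S), g ≠ 1 →
      (Subgroup.centralizer ({g} : Set S)).index = p ^ k → (Nat.card S).Prime) (n : ℕ) :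
    ∀ (G : Type u) [Group G] [Finite G], Nat.card G = n → PHyp p G → Group.IsSolvable G := by
  induction n using Nat.strong_induction_on with
  | _ n IH =>
    intro G _ _ hn h
    rcases subsingleton_or_nontrivial G with hs | hnt
    · infer_instance
    by_cases hsimple : IsSimpleGroup G
    · by_cases hreg : ∃ x : G, x ≠ 1 ∧ (orderOf x).Coprime p
      · obtain ⟨x, hx1, hx⟩ := hreg
        obtain ⟨k, hk⟩ := h x hx
        have hprime := hB G k x hx1 hk
        haveI : Fact (Nat.card G).Prime := ⟨hprime⟩
        haveI : IsCyclic G := isCyclic_of_prime_card rfl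
        haveI : IsMulCommutative G := IsCyclic.isMulCommutative
        exact Group.isSolvable_of_comm (fun a b => mul_comm' a b)
      · push Not at hreg
        have hP : IsPGroup p G := by
          intro g
          obtain ⟨x, _, y, _, hgxy, hx, k, hy⟩ := exists_p_decomp p g (isOfFinOrder_of_finite g)
          have hx1 : x = 1 := by
            by_contra hne
            exact hreg x hne hx
          refine ⟨k, ?_⟩
          rw [hgxy, hx1, mul_one, hy]
        haveI := hP.isNilpotent
        infer_instance
    · have : ∃ N : Subgroup G, N.Normal ∧ N ≠ ⊥ ∧ N ≠ ⊤ := by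
        by_contra hcon
        push Not at hcon
        apply hsimple
        refine ⟨fun N hN => ?_⟩
        by_cases hb : N = ⊥
        · exact Or.inl hb
        · exact Or.inr (hcon N hN hb)
      obtain ⟨N, hN, hNb, hNt⟩ := this
      have hc1 : Nat.card N < n := by
        rw [← hn]
        have h1 := N.card_mul_index
        have h2 : N.index ≠ 1 := fun h => hNt (Subgroup.index_eq_one.mp h)
        have h3 : 0 < N.index := Nat.pos_of_ne_zero Subgroup.index_ne_zero_of_finite
        have h4 : 0 < Nat.card N := Nat.card_pos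
        have h5 : 2 ≤ N.index := by omega
        nlinarith
      have hc2 : Nat.card (G ⧸ N) < n := by
        rw [← hn]
        have h1 := N.card_mul_index
        rw [Subgroup.index_eq_card] at h1
        have h2 : Nat.card N ≠ 1 := fun h => hNb ((Subgroup.card_eq_one).mp h)
        have h3 : 0 < Nat.card (G ⧸ N) := Nat.card_pos
        have h4 : 0 < Nat.card N := Nat.card_pos
        have h5 : 2 ≤ Nat.card N := by omega
        nlinarith
      have s1 := IH _ hc1 N rfl (h.normal hp.out N)
      have s2 := IH _ hc2 (G ⧸ N) rfl (h.quotient N)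
      exact (Group.isSolvable_iff_subgroup_quotient N).mpr ⟨s1, s2⟩

theorem orderOf_dvd_card_of_mul_invariant {G : Type*} [Group G] [Finite G] (d : G) (S : Finset G)
    (h : ∀ s ∈ S, d * s ∈ S) : orderOf d ∣ S.card := by
  rw [← Nat.card_zpowers]
  apply card_dvd_of_mul_invariant
  intro t ht s hs
  rw [← mem_powers_iff_mem_zpowers] at ht
  obtain ⟨n, rfl⟩ := ht
  induction n with
  | zero => simpa using hs
  | succ n ih =>
    show d ^ (n + 1) * s ∈ S
    rw [pow_succ', mul_assoc]; exact h _ ih

theorem coprime_orderOf_of_mem {G : Type*} [Group G] [Finite G] {p : ℕ} (L : Subgroup G)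
    (hL : (Nat.card L).Coprime p) (x : G) (hx : x ∈ L) : (orderOf x).Coprime p := by
  have h1 : orderOf x ∣ Nat.card L := by
    have := orderOf_dvd_natCard (⟨x, hx⟩ : L)
    rwa [Subgroup.orderOf_mk] at this
  exact Nat.Coprime.coprime_dvd_left h1 hL

/-- Step B. -/
theorem PHyp.exists_complement_aux {p : ℕ} [hp : Fact p.Prime] (n : ℕ) :
    ∀ (G : Type u) [Group G] [Finite G] [Group.IsSolvable G], Nat.card G = n → PHyp p G →
      ∃ H : Subgroup G, IsMulCommutative H ∧ ¬ p ∣ Nat.card H ∧ ∃ k : ℕ, H.index = p ^ k := by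
  classical
  induction n using Nat.strong_induction_on with
  | _ n IH =>
    intro G _ _ _ hn h
    rcases subsingleton_or_nontrivial G with hs | hnt
    · refine ⟨⊥, inferInstance, ?_, 0, ?_⟩
      · rw [Subgroup.card_bot]
        exact hp.out.one_lt.ne' ∘ Nat.dvd_one.mp
      · rw [Subgroup.index_bot, pow_zero, Nat.card_eq_one_iff_unique]
        exact ⟨hs, ⟨1⟩⟩
    obtain ⟨r, M, hr, hMn, hMb, hMab, hMexp⟩ :=
      Cfsg.Agent.Lib.Helper1.exists_normal_elementary_abelian (G := G)
    haveI := hMn
    have hMP : IsPGroup r M := Cfsg.Agent.Lib.Helper1.isPGroup_of_pow_eq_one hMexp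
    haveI : Fact r.Prime := ⟨hr⟩
    obtain ⟨j, hj⟩ := (IsPGroup.iff_card).mp hMP
    have hcq : Nat.card (G ⧸ M) < n := by
      rw [← hn]
      have h1 := M.card_mul_index
      rw [Subgroup.index_eq_card] at h1
      have h2 : Nat.card M ≠ 1 := fun h => hMb ((Subgroup.card_eq_one).mp h)
      have h3 : 0 < Nat.card (G ⧸ M) := Nat.card_pos
      have h4 : 0 < Nat.card M := Nat.card_pos
      have h5 : 2 ≤ Nat.card M := by omega
      nlinarith
    obtain ⟨Hb, hHbab, hHbp, k, hHbk⟩ := IH _ hcq (G ⧸ M) rfl (h.quotient M)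
    set L := Hb.comap (QuotientGroup.mk' M) with hL
    have hLcard : Nat.card L = Nat.card M * Nat.card Hb :=
      Cfsg.Agent.Lib.Helper1.card_comap_mk' M Hb
    have hLidx : L.index = p ^ k := by
      rw [hL, Subgroup.index_comap_of_surjective _ (QuotientGroup.mk'_surjective M), hHbk]
    have hML : M ≤ L := by
      intro m hm
      show QuotientGroup.mk' M m ∈ Hb
      have : QuotientGroup.mk' M m = 1 := (QuotientGroup.eq_one_iff m).mpr hm
      rw [this]; exact Hb.one_mem
    have hcommL : ∀ a ∈ L, ∀ b ∈ L, a⁻¹ * b⁻¹ * a * b ∈ M := by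
      intro a ha b hb
      rw [← QuotientGroup.eq_one_iff]
      have h2 : (a : G ⧸ M) * (b : G ⧸ M) = (b : G ⧸ M) * (a : G ⧸ M) :=
        setLike_mul_comm (s := Hb) ha hb
      simp only [QuotientGroup.mk_mul, QuotientGroup.mk_inv]
      rw [mul_assoc _ (a : G ⧸ M) (b : G ⧸ M), h2]
      group
    by_cases hrp : r = p
    · subst hrp
      have hM'card : Nat.card (M.subgroupOf L) = Nat.card M :=
        Cfsg.Agent.Lib.Helper1.card_subgroupOf_of_le hML
      have hM'idx : (M.subgroupOf L).index = Nat.card Hb := by
        have h1 := (M.subgroupOf L).card_mul_index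
        rw [hM'card, hLcard] at h1
        exact Nat.eq_of_mul_eq_mul_left Nat.card_pos h1
      have hcop : (Nat.card (M.subgroupOf L)).Coprime (M.subgroupOf L).index := by
        rw [hM'card, hM'idx, hj]
        exact Nat.Coprime.pow_left _ ((Nat.Prime.coprime_iff_not_dvd hr).mpr hHbp)
      obtain ⟨K', hK'⟩ := Subgroup.exists_right_complement'_of_coprime hcop
      have hK'ab : IsMulCommutative K' := by
        apply IsMulCommutative.of_setLike_mul_comm
        intro a ha b hb
        have h1 : a⁻¹ * b⁻¹ * a * b ∈ M.subgroupOf L := by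
          rw [Subgroup.mem_subgroupOf]
          exact hcommL a.1 a.2 b.1 b.2
        have h2 : a⁻¹ * b⁻¹ * a * b ∈ K' :=
          K'.mul_mem (K'.mul_mem (K'.mul_mem (K'.inv_mem ha) (K'.inv_mem hb)) ha) hb
        have h3 : a⁻¹ * b⁻¹ * a * b ∈ M.subgroupOf L ⊓ K' := ⟨h1, h2⟩
        rw [hK'.disjoint.eq_bot, Subgroup.mem_bot] at h3
        have := congrArg (fun t => b * a * t) h3
        simpa [mul_assoc] using this
      refine ⟨K'.map L.subtype, inferInstance, ?_, j + k, ?_⟩
      · rw [Subgroup.card_map_of_injective L.subtype_injective,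
          ← hK'.symm.index_eq_card, hM'idx]
        exact hHbp
      · rw [Subgroup.index_map_subtype, hK'.index_eq_card, hM'card, hj, hLidx, pow_add]
    · have hMcop : (Nat.card M).Coprime p := by
        rw [hj]
        exact Nat.Coprime.pow_left _ ((Nat.coprime_primes hr hp.out).mpr hrp)
      by_cases hC : Subgroup.centralizer (M : Set G) = ⊤
      · have hLcop : (Nat.card L).Coprime p := by
          rw [hLcard]
          exact Nat.Coprime.mul_left hMcop
            ((Nat.Prime.coprime_iff_not_dvd hp.out).mpr hHbp).symm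
        refine ⟨L, ?_, ?_, k, hLidx⟩
        · apply IsMulCommutative.of_setLike_mul_comm
          intro l hl x hx
          set d := x⁻¹ * l⁻¹ * x * l with hd
          have hdM : d ∈ M := hcommL x hx l hl
          have hdc : ∀ g : G, g * d = d * g := by
            intro g
            have : g ∈ Subgroup.centralizer (M : Set G) := hC ▸ Subgroup.mem_top g
            exact ((Subgroup.mem_centralizer_iff.mp this) d hdM).symm
          obtain ⟨e, he⟩ := h x (coprime_orderOf_of_mem L hLcop x hx)
          rw [index_centralizer_eq_ncard_carrier,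
            Set.ncard_eq_toFinset_card _ (Set.toFinite _)] at he
          have h1 : orderOf d ∣ p ^ e := by
            rw [← he]
            apply orderOf_dvd_card_of_mul_invariant
            intro s hs
            rw [Set.Finite.mem_toFinset, ConjClasses.mem_carrier_iff_mk_eq,
              ConjClasses.mk_eq_mk_iff_isConj, isConj_comm, isConj_iff] at hs ⊢
            obtain ⟨g, rfl⟩ := hs
            refine ⟨g * l⁻¹, ?_⟩
            have h2 : l⁻¹ * x * l = d * x := by
              rw [← hdc x, hd]; group
            calc g * l⁻¹ * x * (g * l⁻¹)⁻¹ = g * (l⁻¹ * x * l) * g⁻¹ := by group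
              _ = g * (d * x) * g⁻¹ := by rw [h2]
              _ = (g * d) * x * g⁻¹ := by group
              _ = d * (g * x * g⁻¹) := by rw [hdc g]; group
          have h2 : orderOf d ∣ Nat.card M := by
            have := orderOf_dvd_natCard (⟨d, hdM⟩ : M)
            rwa [Subgroup.orderOf_mk] at this
          have h3 := Nat.dvd_gcd h2 h1
          rw [(Nat.Coprime.pow_right e hMcop).gcd_eq_one, Nat.dvd_one, orderOf_eq_one_iff] at h3
          have := congrArg (fun t => l * x * t) h3
          simp only [hd] at this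
          simpa [mul_assoc] using this.symm
        · exact fun hdvd => (Nat.Prime.coprime_iff_not_dvd hp.out).mp hLcop.symm hdvd
      · set C := Subgroup.centralizer (M : Set G) with hCdef
        have hcC : Nat.card C < n := by
          rw [← hn]
          have h1 := C.card_mul_index
          have h2 : C.index ≠ 1 := fun h => hC (Subgroup.index_eq_one.mp h)
          have h3 : 0 < C.index := Nat.pos_of_ne_zero Subgroup.index_ne_zero_of_finite
          have h4 : 0 < Nat.card C := Nat.card_pos
          have h5 : 2 ≤ C.index := by omega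
          nlinarith
        obtain ⟨H₀, hH₀ab, hH₀p, k₀, hH₀k⟩ := IH _ hcC C rfl (h.normal hp.out C)
        have hCidx : ∃ e, C.index = p ^ e := by
          refine ⟨_, Nat.eq_prime_pow_of_unique_prime_dvd Subgroup.index_ne_zero_of_finite ?_⟩
          intro q hq hqd
          by_contra hqp
          haveI : Fact q.Prime := ⟨hq⟩
          obtain ⟨Q⟩ : Nonempty (Sylow q G) := inferInstance
          have hQC : (Q : Subgroup G) ≤ C := by
            intro y hy
            have hy1 : (orderOf y).Coprime p := by
              obtain ⟨i, hi⟩ := (IsPGroup.iff_orderOf.mp Q.2) ⟨y, hy⟩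
              rw [Subgroup.orderOf_mk] at hi
              rw [hi]
              exact Nat.Coprime.pow_left _ ((Nat.coprime_primes hq hp.out).mpr hqp)
            have := h.le_centralizer hp.out M hMcop y hy1
            rw [hCdef, Subgroup.mem_centralizer_iff]
            intro m hm
            exact (Subgroup.mem_centralizer_singleton_iff.mp (this hm))
          exact Q.not_dvd_index (hqd.trans (Subgroup.index_dvd_of_le hQC))
        obtain ⟨e, he⟩ := hCidx
        refine ⟨H₀.map C.subtype, inferInstance, ?_, k₀ + e, ?_⟩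
        · rw [Subgroup.card_map_of_injective C.subtype_injective]; exact hH₀p
        · rw [Subgroup.index_map_subtype, hH₀k, he, pow_add]

/-- `p`-regular elements are conjugate into an abelian subgroup of `p`-power index. -/
theorem exists_conj_mem_of_abelian_complement {p : ℕ} [hp : Fact p.Prime] (n : ℕ) :
    ∀ (G : Type u) [Group G] [Finite G], Nat.card G = n → ∀ (H : Subgroup G), IsMulCommutative H →
      (∃ k : ℕ, H.index = p ^ k) → ∀ x : G, (orderOf x).Coprime p → ∃ g : G, g⁻¹ * x * g ∈ H := by
  classical
  induction n using Nat.strong_induction_on with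
  | _ n IH =>
    intro G _ _ hn H hHab hHidx
    obtain ⟨k, hk⟩ := hHidx
    have inner : ∀ m : ℕ, ∀ x : G, orderOf x = m → (orderOf x).Coprime p →
        ∃ g : G, g⁻¹ * x * g ∈ H := by
      intro m
      induction m using Nat.strong_induction_on with
      | _ m IHm =>
        intro x hxm hxp
        by_cases hx1 : x = 1
        · exact ⟨1, by simp [hx1, H.one_mem]⟩
        have hox : orderOf x ≠ 1 := fun h => hx1 (orderOf_eq_one_iff.mp h)
        obtain ⟨q, hq, hqx⟩ := Nat.exists_prime_and_dvd hox
        have hqp : q ≠ p := by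
          rintro rfl
          exact (Nat.Prime.coprime_iff_not_dvd hq).mp hxp.symm hqx
        haveI : Fact q.Prime := ⟨hq⟩
        obtain ⟨z, hz, y, hy, hxyz, hzq, e, hye⟩ := exists_p_decomp q x (isOfFinOrder_of_finite x)
        have hqidx : ¬ q ∣ H.index := by
          rw [hk]
          intro hd
          exact hqp ((Nat.prime_dvd_prime_iff_eq hq hp.out).mp (hq.dvd_of_dvd_pow hd))
        obtain ⟨Q₀, hQ₀H, -⟩ := exists_sylow_le_of_not_dvd_index H hqidx 1 H.one_mem 0 (by simp)
        obtain ⟨Q₁, -, hyQ₁⟩ := exists_sylow_le_of_not_dvd_index (⊤ : Subgroup G)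
          (by rw [Subgroup.index_top]; exact hq.one_lt.ne' ∘ Nat.dvd_one.mp) y (Subgroup.mem_top y)
          e hye
        obtain ⟨t, ht⟩ := MulAction.exists_smul_eq G Q₀ Q₁
        have hQ' : (Q₁ : Subgroup G) = MulAut.conj t • (Q₀ : Subgroup G) := by
          rw [← ht]; rfl
        have hy'H : t⁻¹ * y * t ∈ H := by
          apply hQ₀H
          rw [← mem_conj_smul, ← hQ']; exact hyQ₁
        have hcomm : Commute y z := by
          obtain ⟨i, rfl⟩ := hz
          obtain ⟨j, rfl⟩ := hy
          exact Commute.zpow_zpow_self x j i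
        set y' := t⁻¹ * y * t with hy'
        set z' := t⁻¹ * z * t with hz'
        have hx' : t⁻¹ * x * t = y' * z' := by
          rw [hxyz, hy', hz']; group
        have hcomm' : Commute y' z' := by
          show y' * z' = z' * y'
          rw [hy', hz']
          have : y * z = z * y := hcomm
          calc t⁻¹ * y * t * (t⁻¹ * z * t) = t⁻¹ * (y * z) * t := by group
            _ = t⁻¹ * (z * y) * t := by rw [this]
            _ = t⁻¹ * z * t * (t⁻¹ * y * t) := by group
        have hoz' : orderOf z' = orderOf z := by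
          have hs : SemiconjBy t⁻¹ z z' := by
            show t⁻¹ * z = z' * t⁻¹
            rw [hz']; group
          exact (hs.orderOf_eq t⁻¹).symm
        have hozx : orderOf z ∣ orderOf x := orderOf_dvd_of_mem_zpowers hz
        suffices hsuff : ∃ g : G, g⁻¹ * (y' * z') * g ∈ H by
          obtain ⟨g, hg⟩ := hsuff
          refine ⟨t * g, ?_⟩
          rw [← hx'] at hg
          convert hg using 1
          group
        by_cases hC : Subgroup.centralizer ({y'} : Set G) = ⊤
        · have hyc : ∀ g : G, g * y' = y' * g := by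
            intro g
            have : g ∈ Subgroup.centralizer ({y'} : Set G) := hC ▸ Subgroup.mem_top g
            exact Subgroup.mem_centralizer_singleton_iff.mp this
          have hy1 : orderOf y ≠ 1 := by
            intro h1
            rw [orderOf_eq_one_iff] at h1
            rw [h1, one_mul] at hxyz
            rw [hxyz] at hqx
            exact (Nat.Prime.coprime_iff_not_dvd hq).mp hzq.symm hqx
          have hoy : orderOf y ∣ q ^ e := orderOf_dvd_of_pow_eq_one hye
          have hco : (orderOf y).Coprime (orderOf z) :=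
            Nat.Coprime.coprime_dvd_left hoy (Nat.Coprime.pow_left _ hzq.symm)
          have hprod : orderOf x = orderOf y * orderOf z := by
            rw [hxyz]; exact hcomm.orderOf_mul_eq_mul_orderOf_of_coprime hco
          have hlt : orderOf z' < m := by
            rw [hoz', ← hxm, hprod]
            have h0 : 0 < orderOf y := orderOf_pos y
            have h0' : 0 < orderOf z := orderOf_pos z
            have h2 : 2 ≤ orderOf y := by omega
            nlinarith
          obtain ⟨g, hg⟩ := IHm _ hlt z' rfl (by
            rw [hoz']; exact Nat.Coprime.coprime_dvd_left hozx hxp)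
          refine ⟨g, ?_⟩
          have : g⁻¹ * (y' * z') * g = y' * (g⁻¹ * z' * g) := by
            calc g⁻¹ * (y' * z') * g = (g⁻¹ * y') * z' * g := by group
              _ = (y' * g⁻¹) * z' * g := by rw [hyc g⁻¹]
              _ = y' * (g⁻¹ * z' * g) := by group
          rw [this]
          exact H.mul_mem hy'H hg
        · set C := Subgroup.centralizer ({y'} : Set G) with hCdef
          have hHC : H ≤ C := by
            intro a ha
            rw [hCdef, Subgroup.mem_centralizer_singleton_iff]
            exact setLike_mul_comm (s := H) ha hy'H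
          have hcC : Nat.card C < n := by
            rw [← hn]
            have h1 := C.card_mul_index
            have h2 : C.index ≠ 1 := fun h => hC (Subgroup.index_eq_one.mp h)
            have h3 : 0 < C.index := Nat.pos_of_ne_zero Subgroup.index_ne_zero_of_finite
            have h4 : 0 < Nat.card C := Nat.card_pos
            have h5 : 2 ≤ C.index := by omega
            nlinarith
          have hxC : y' * z' ∈ C := by
            rw [hCdef, Subgroup.mem_centralizer_singleton_iff]
            rw [mul_assoc, hcomm'.symm.eq]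
          have hidx : ∃ j : ℕ, (H.subgroupOf C).index = p ^ j := by
            have h1 : H.relIndex C ∣ p ^ k := hk ▸ Subgroup.relIndex_dvd_index_of_le hHC
            obtain ⟨j, -, hj⟩ := (Nat.dvd_prime_pow hp.out).mp h1
            exact ⟨j, hj⟩
          have hox' : (orderOf (⟨y' * z', hxC⟩ : C)).Coprime p := by
            rw [Subgroup.orderOf_mk, ← hx']
            have hs : SemiconjBy t⁻¹ x (t⁻¹ * x * t) := by
              show t⁻¹ * x = t⁻¹ * x * t * t⁻¹
              group
            rw [← hs.orderOf_eq t⁻¹]
            exact hxp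
          obtain ⟨c, hc⟩ := IH _ hcC C rfl (H.subgroupOf C) inferInstance hidx _ hox'
          exact ⟨c.1, hc⟩
    intro x hx
    exact inner _ x rfl hx

theorem PHyp.of_abelian_complement {p : ℕ} [hp : Fact p.Prime] {G : Type u} [Group G] [Finite G]
    (H : Subgroup G) (hHab : IsMulCommutative H) (hHidx : ∃ k : ℕ, H.index = p ^ k) : PHyp p G := by
  intro x hx
  obtain ⟨g, hg⟩ := exists_conj_mem_of_abelian_complement _ G rfl H hHab hHidx x hx
  obtain ⟨k, hk⟩ := hHidx
  have h1 : MulAut.conj g • H ≤ Subgroup.centralizer ({x} : Set G) := by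
    intro a ha
    rw [mem_conj_smul] at ha
    rw [Subgroup.mem_centralizer_singleton_iff]
    have := setLike_mul_comm (s := H) ha hg
    have h2 := congrArg (fun w => g * w * g⁻¹) this
    simpa [mul_assoc] using h2
  have h2 : (MulAut.conj g • H).index = H.index :=
    Subgroup.index_map_equiv H (MulDistribMulAction.toMulEquiv G (MulAut.conj g))
  have h3 : (Subgroup.centralizer ({x} : Set G)).index ∣ p ^ k := by
    rw [← hk, ← h2]; exact Subgroup.index_dvd_of_le h1
  obtain ⟨j, -, hj⟩ := (Nat.dvd_prime_pow hp.out).mp h3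
  exact ⟨j, hj⟩

/-- S4034, modulo Burnside's lemma. -/
theorem pregular_main {p : ℕ} (hp : p.Prime)
    (hB : ∀ (S : Type u) [Group S] [Finite S] [IsSimpleGroup S] (k : ℕ) (g : S), g ≠ 1 →
      (Subgroup.centralizer ({g} : Set S)).index = p ^ k → (Nat.card S).Prime)
    {G : Type u} [Group G] [Finite G] :
    (∀ x : G, (orderOf x).Coprime p → ∃ k : ℕ, (ConjClasses.mk x).carrier.ncard = p ^ k) ↔
    (∃ H : Subgroup G, IsMulCommutative H ∧ ¬ p ∣ Nat.card H ∧ ∃ k : ℕ, H.index = p ^ k) := by
  haveI : Fact p.Prime := ⟨hp⟩
  have hiff : (∀ x : G, (orderOf x).Coprime p → ∃ k : ℕ, (ConjClasses.mk x).carrier.ncard = p ^ k) ↔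
      PHyp p G := by
    unfold PHyp
    simp only [index_centralizer_eq_ncard_carrier]
  rw [hiff]
  constructor
  · intro h
    haveI := PHyp.solvable_aux hB _ G rfl h
    exact PHyp.exists_complement_aux _ G rfl h
  · rintro ⟨H, hab, -, hidx⟩
    exact PHyp.of_abelian_complement H hab hidx

end Cfsg.Agent.Lib.Helper21
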