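import Cfsg.Agent.Lib.Helper21.PRegular
import Cfsg.Agent.Lib.Helper17.Sidki
import Cfsg.Agent.Lib.Helper1.Cores

set_option autoImplicit false
open Pointwise

namespace Cfsg.Agent.Lib.Helper21

theorem pCore_quotient_eq_bot {G : Type*} [Group G] [Finite G] (p : ℕ) [Fact p.Prime]
    [hn : (Cfsg.pCore p G).Normal] : Cfsg.pCore p (G ⧸ Cfsg.pCore p G) = ⊥ := by
  set N := Cfsg.pCore p G with hN
  set R := Cfsg.pCore p (G ⧸ N) with hR
  have hRn : R.Normal := Cfsg.Agent.Lib.Helper1.pCore_normal p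
  have hRp : IsPGroup p R := Cfsg.Agent.Lib.Helper1.pCore_isPGroup p
  have hNp : IsPGroup p N := Cfsg.Agent.Lib.Helper1.pCore_isPGroup p
  have h1 : IsPGroup p (R.comap (QuotientGroup.mk' N)) := by
    apply hRp.comap_of_ker_isPGroup
    rw [QuotientGroup.ker_mk']
    exact hNp
  have h2 : R.comap (QuotientGroup.mk' N) ≤ N :=
    Cfsg.Agent.Lib.Helper1.le_pCore (hRn.comap _) h1
  rw [eq_bot_iff]
  intro x hx
  obtain ⟨y, rfl⟩ := QuotientGroup.mk'_surjective N x
  rw [Subgroup.mem_bot]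
  exact (QuotientGroup.eq_one_iff y).mpr (h2 hx)

/-- If `2`-elements normalizing a cyclic group of odd order centralize it, the Sylow `2`-subgroups
are normal. -/
theorem sylow_two_normal_of_centralize {G : Type*} [Group G] [Finite G]
    (hstar : ∀ h v : G, Odd (orderOf h) → (∃ k : ℕ, v ^ 2 ^ k = 1) →
      v ∈ Subgroup.normalizer ((Subgroup.zpowers h : Subgroup G) : Set G) → v * h = h * v)
    (P : Sylow 2 G) : (P : Subgroup G).Normal := by
  classical
  haveI : Fact (Nat.Prime 2) := ⟨Nat.prime_two⟩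
  set N := Cfsg.pCore 2 G with hN
  haveI hNn : N.Normal := Cfsg.Agent.Lib.Helper1.pCore_normal 2
  have hNp : IsPGroup 2 N := Cfsg.Agent.Lib.Helper1.pCore_isPGroup 2
  have hNP : N ≤ P := Cfsg.Agent.Lib.Helper17.pCore_le_sylow P
  suffices hPN : (P : Subgroup G) ≤ N by
    have : (P : Subgroup G) = N := le_antisymm hPN hNP
    rw [this]; exact hNn
  by_contra hcon
  obtain ⟨x, hxP, hxN⟩ := SetLike.not_le_iff_exists.mp hcon
  -- an element v of P outside N with v^2 in N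
  have hex : ∃ e : ℕ, x ^ 2 ^ e ∈ N := by
    obtain ⟨k, hk⟩ := P.2 ⟨x, hxP⟩
    refine ⟨k, ?_⟩
    have : x ^ 2 ^ k = 1 := congrArg Subtype.val hk
    rw [this]; exact N.one_mem
  have h0 : Nat.find hex ≠ 0 := by
    intro h
    have := Nat.find_spec hex
    rw [h] at this
    simp at this
    exact hxN this
  obtain ⟨e, he⟩ := Nat.exists_eq_succ_of_ne_zero h0
  set v := x ^ 2 ^ e with hv
  have hvN : v ∉ N := Nat.find_min hex (by rw [he]; exact Nat.lt_succ_self e)
  have hv2 : v * v ∈ N := by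
    have := Nat.find_spec hex
    rw [he, Nat.succ_eq_add_one, pow_succ, pow_mul] at this
    rw [← pow_two]; exact this
  have hvP : v ∈ (P : Subgroup G) := (P : Subgroup G).pow_mem hxP _
  -- pass to the quotient
  have hvb : (v : G ⧸ N) * (v : G ⧸ N) = 1 := by
    rw [← QuotientGroup.mk_mul]; exact (QuotientGroup.eq_one_iff _).mpr hv2
  have hvb1 : (v : G ⧸ N) ∉ Cfsg.pCore 2 (G ⧸ N) := by
    rw [pCore_quotient_eq_bot, Subgroup.mem_bot]
    intro h
    exact hvN ((QuotientGroup.eq_one_iff _).mp h)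
  obtain ⟨hb, hb1, hbodd, hbinv⟩ := Cfsg.Agent.Lib.Helper17.exists_inverted_of_not_mem_pCore hvb hvb1
  obtain ⟨h, rfl, hh⟩ := exists_pregular_lift (p := 2) N hb (Nat.Coprime.symm
    (Nat.coprime_two_left.mpr hbodd))
  have hhodd : Odd (orderOf h) := Nat.coprime_two_left.mp hh.symm
  set A := Subgroup.zpowers h with hA
  have hkey : v * h * v⁻¹ * h ∈ N := by
    rw [← QuotientGroup.eq_one_iff]
    simp only [QuotientGroup.mk_mul, QuotientGroup.mk_inv]
    rw [hbinv, inv_mul_cancel]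
  have hB : MulAut.conj v • A ≤ N ⊔ A := by
    intro y hy
    rw [Cfsg.Agent.Lib.Helper1.mem_conj_smul] at hy
    obtain ⟨i, hi⟩ := hy
    have hy' : y = (v * h * v⁻¹) ^ i := by
      rw [conj_zpow]
      have hi' : h ^ i = v⁻¹ * y * v := hi
      rw [hi']; group
    rw [hy']
    apply Subgroup.zpow_mem
    have : v * h * v⁻¹ = (v * h * v⁻¹ * h) * h⁻¹ := by group
    rw [this]
    exact Subgroup.mul_mem _ (Subgroup.mem_sup_left hkey)
      (Subgroup.mem_sup_right (A.inv_mem (Subgroup.mem_zpowers h)))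
  have hcop : (Nat.card N).Coprime (Nat.card A) := by
    obtain ⟨k, hk⟩ := IsPGroup.iff_card.mp hNp
    rw [hk, hA, Nat.card_zpowers]
    exact Nat.Coprime.pow_left _ hh.symm
  have hsolv : Group.IsSolvable A := Group.isSolvable_of_comm (fun a b => mul_comm' a b)
  obtain ⟨n, hn, hconj⟩ := Cfsg.Agent.Lib.Helper1.szi_card N A (MulAut.conj v • A)
    (by rw [Subgroup.normalizer_eq_top_iff.mpr hNn]; exact le_top) hB
    (Cfsg.Agent.Lib.Helper1.card_conj_smul _ _) hcop (Or.inr hsolv)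
  set w := n⁻¹ * v with hw
  have hwP : w ∈ (P : Subgroup G) := (P : Subgroup G).mul_mem ((P : Subgroup G).inv_mem (hNP hn)) hvP
  have hw2 : ∃ k : ℕ, w ^ 2 ^ k = 1 := by
    obtain ⟨k, hk⟩ := P.2 ⟨w, hwP⟩
    exact ⟨k, congrArg Subtype.val hk⟩
  have hwn : w ∈ Subgroup.normalizer ((Subgroup.zpowers h : Subgroup G) : Set G) := by
    rw [Subgroup.mem_set_normalizer_iff]
    intro y
    have h1 : w * y * w⁻¹ ∈ A ↔ v * y * v⁻¹ ∈ MulAut.conj n • A := by
      rw [Cfsg.Agent.Lib.Helper1.mem_conj_smul]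
      have : w * y * w⁻¹ = n⁻¹ * (v * y * v⁻¹) * n := by rw [hw]; group
      rw [this]
    have h2 : v * y * v⁻¹ ∈ MulAut.conj v • A ↔ y ∈ A := by
      rw [Cfsg.Agent.Lib.Helper1.mem_conj_smul]
      have : v⁻¹ * (v * y * v⁻¹) * v = y := by group
      rw [this]
    show y ∈ A ↔ w * y * w⁻¹ ∈ A
    rw [h1, hconj, h2]
  have hcomm := hstar h w hhodd hw2 hwn
  have hwv : (w : G ⧸ N) = (v : G ⧸ N) := by
    rw [hw, QuotientGroup.mk_mul, QuotientGroup.mk_inv, (QuotientGroup.eq_one_iff n).mpr hn]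
    simp
  have hcommb : (v : G ⧸ N) * (h : G ⧸ N) = (h : G ⧸ N) * (v : G ⧸ N) := by
    rw [← hwv, ← QuotientGroup.mk_mul, hcomm, QuotientGroup.mk_mul]
  rw [hcommb, mul_inv_cancel_right] at hbinv
  apply hb1
  apply Cfsg.Agent.Lib.Helper17.eq_one_of_odd_of_sq hbodd
  nth_rewrite 1 [hbinv]
  exact inv_mul_cancel _

end Cfsg.Agent.Lib.Helper21
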